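import Cfsg.Agent.Lib.ZJ.Center
import Cfsg.Agent.Lib.StrongFusion.Chain
import Cfsg.Agent.Lib.Basic

/-!
Elementary abelian subgroups of largest order: their meet, its centralizer, and their invariance.
-/

set_option autoImplicit false
set_option linter.unusedSectionVars false

namespace CfsgLib.TransferRoot

open CfsgLib CfsgLib.StrongFusion CfsgLib.ZJ

universe u v

variable {G : Type u} [Group G] [Finite G] {H : Type v} [Group H] (p : ℕ)

/-- The meet of the elementary abelian subgroups of largest order. -/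
def meet (Q : Subgroup G) : Subgroup G := ⨅ A ∈ goodMax p Q, A

/-- Its centralizer in `Q`. -/
def bau (Q : Subgroup G) : Subgroup G := Q ⊓ Subgroup.centralizer (meet p Q : Set G)

/-- The central elements of order dividing `p`. -/
def cent (Q : Subgroup G) : Subgroup G where
  carrier := {x | x ∈ Q ∧ x ^ p = 1 ∧ ∀ q ∈ Q, q * x = x * q}
  one_mem' := ⟨one_mem _, one_pow _, fun q _ => by simp⟩
  mul_mem' {x y} hx hy := ⟨mul_mem hx.1 hy.1,
    by rw [(show Commute x y from hy.2.2 x hx.1).mul_pow, hx.2.1, hy.2.1, one_mul],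
    fun q hq => by rw [← mul_assoc, hx.2.2 q hq, mul_assoc, hy.2.2 q hq, ← mul_assoc]⟩
  inv_mem' {x} hx := ⟨inv_mem hx.1, by rw [inv_pow, hx.2.1, inv_one],
    fun q hq => ((show Commute q x from hx.2.2 q hq).inv_right).eq⟩

variable {p}

theorem mem_meet {Q : Subgroup G} {x : G} : x ∈ meet p Q ↔ ∀ A ∈ goodMax p Q, x ∈ A := by
  simp [meet, Subgroup.mem_iInf]

theorem meet_le (Q : Subgroup G) : meet p Q ≤ Q := fun x hx => by
  obtain ⟨A, hA⟩ := goodMax_nonempty p Q
  exact hA.1 (mem_meet.1 hx A hA)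

theorem meet_comm {Q : Subgroup G} {x y : G} (hx : x ∈ meet p Q) (hy : y ∈ meet p Q) : x * y = y * x := by
  obtain ⟨A, hA⟩ := goodMax_nonempty p Q
  exact hA.2.1.1 x (mem_meet.1 hx A hA) y (mem_meet.1 hy A hA)

theorem meet_pow {Q : Subgroup G} {x : G} (hx : x ∈ meet p Q) : x ^ p = 1 := by
  obtain ⟨A, hA⟩ := goodMax_nonempty p Q
  exact hA.2.1.2 x (mem_meet.1 hx A hA)

theorem mem_of_commutes {Q A : Subgroup G} (hA : A ∈ goodMax p Q) {x : G} (hx : x ∈ Q) (hxp : x ^ p = 1)
    (hc : ∀ a ∈ A, a * x = x * a) : x ∈ A := by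
  have hg : IsGood p (Subgroup.closure ((A : Set G) ∪ {x})) := by
    refine isGood_closure ?_ ?_
    · rintro a (ha | rfl) b (hb | rfl)
      exacts [hA.2.1.1 a ha b hb, hc a ha, (hc b hb).symm, rfl]
    · rintro a (ha | rfl)
      exacts [hA.2.1.2 a ha, hxp]
  have hle : A ≤ Subgroup.closure ((A : Set G) ∪ {x}) := fun a ha => Subgroup.subset_closure (Or.inl ha)
  have h1 := Subgroup.eq_of_le_of_card_ge hle (hA.2.2 _
    ((Subgroup.closure_le _).2 (by rintro a (ha | rfl); exacts [hA.1 ha, hx])) hg)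
  exact h1.ge (Subgroup.subset_closure (Or.inr rfl))

/-- Commuting with all the largest ones and of order `p` means lying in all of them. -/
theorem mem_meet_of_commutes {Q : Subgroup G} {x : G} (hx : x ∈ Q) (hxp : x ^ p = 1)
    (hc : ∀ A ∈ goodMax p Q, ∀ a ∈ A, a * x = x * a) : x ∈ meet p Q :=
  mem_meet.2 fun A hA => mem_of_commutes hA hx hxp (hc A hA)

theorem meet_commutes {Q A : Subgroup G} (hA : A ∈ goodMax p Q) {x a : G} (hx : x ∈ meet p Q) (ha : a ∈ A) :
    a * x = x * a := hA.2.1.1 a ha x (mem_meet.1 hx A hA)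

theorem cent_le_meet (Q : Subgroup G) : cent p Q ≤ meet p Q := fun _ hx =>
  mem_meet_of_commutes hx.1 hx.2.1 fun _ hA a ha => hx.2.2 a (hA.1 ha)

theorem cent_ne_bot [hp : Fact p.Prime] {Q : Subgroup G} (hQ : IsPGroup p Q) (hne : Q ≠ ⊥) : cent p Q ≠ ⊥ := by
  haveI : Nontrivial Q := (Subgroup.nontrivial_iff_ne_bot Q).2 hne
  haveI := hQ.center_nontrivial
  obtain ⟨k, hk⟩ := (hQ.to_subgroup (Subgroup.center Q)).exists_card_eq
  have hk0 : k ≠ 0 := by
    rintro rfl
    rw [pow_zero] at hk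
    exact (Finite.one_lt_card (α := Subgroup.center Q)).ne' hk
  obtain ⟨x, hx⟩ := exists_prime_orderOf_dvd_card' (G := Subgroup.center Q) p (hk ▸ dvd_pow_self p hk0)
  intro hb
  have hmem : ((x : Q) : G) ∈ cent p Q := ⟨(x : Q).2, by
      have := pow_orderOf_eq_one x
      rw [hx] at this
      exact congrArg (fun y : Subgroup.center Q => ((y : Q) : G)) this,
    fun q hq => congrArg Subtype.val (Subgroup.mem_center_iff.1 x.2 ⟨q, hq⟩)⟩
  rw [hb, Subgroup.mem_bot] at hmem
  have hx1 : x = 1 := Subtype.ext (Subtype.ext hmem)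
  rw [hx1, orderOf_one] at hx
  exact hp.out.one_lt.ne hx

theorem thompsonJ_le_bau (Q : Subgroup G) : thompsonJ p Q ≤ bau p Q :=
  sSup_le fun _ hA => le_inf hA.1 fun _ ha _ hx => (meet_commutes hA hx ha).symm

theorem meet_map {f : G →* H} (hf : Function.Injective f) (Q : Subgroup G) [Finite H] :
    meet p (Q.map f) = (meet p Q).map f := by
  ext y
  rw [mem_meet, goodMax_map p hf]
  constructor
  · intro h
    obtain ⟨A, hA⟩ := goodMax_nonempty p Q
    obtain ⟨x, -, rfl⟩ := h _ ⟨A, hA, rfl⟩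
    refine ⟨x, mem_meet.2 fun B hB => ?_, rfl⟩
    obtain ⟨x', hx', e⟩ := h _ ⟨B, hB, rfl⟩
    rwa [← hf e]
  · rintro ⟨x, hx, rfl⟩ _ ⟨A, hA, rfl⟩
    exact ⟨x, mem_meet.1 hx A hA, rfl⟩

theorem bau_map {f : G →* H} (hf : Function.Injective f) (Q : Subgroup G) [Finite H] :
    bau p (Q.map f) = (bau p Q).map f := by
  ext y
  rw [bau, bau, meet_map hf]
  constructor
  · rintro ⟨⟨x, hx, rfl⟩, hy⟩
    refine ⟨x, ⟨hx, fun z hz => hf ?_⟩, rfl⟩
    rw [map_mul, map_mul]
    exact hy _ ⟨z, hz, rfl⟩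
  · rintro ⟨x, ⟨hx, hx'⟩, rfl⟩
    refine ⟨⟨x, hx, rfl⟩, ?_⟩
    rintro _ ⟨z, hz, rfl⟩
    rw [← map_mul, ← map_mul, hx' z hz]

theorem cent_map {f : G →* H} (hf : Function.Injective f) (Q : Subgroup G) :
    cent p (Q.map f) = (cent p Q).map f := by
  ext y
  constructor
  · rintro ⟨⟨x, hx, rfl⟩, hxp, hc⟩
    refine ⟨x, ⟨hx, hf (by rw [map_pow, hxp, map_one]), fun q hq => hf ?_⟩, rfl⟩
    rw [map_mul, map_mul]
    exact hc _ ⟨q, hq, rfl⟩
  · rintro ⟨x, hx, rfl⟩
    refine ⟨⟨x, hx.1, rfl⟩, by rw [← map_pow, hx.2.1, map_one], ?_⟩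
    rintro _ ⟨q, hq, rfl⟩
    rw [← map_mul, ← map_mul, hx.2.2 q hq]

theorem cent_cm (g : G) (Q : Subgroup G) : cent p (cm g Q) = cm g (cent p Q) :=
  cent_map (MulAut.conj g).injective Q

/-- What is natural for injective maps gives a characteristic subgroup of `Q`. -/
theorem char_of_natural {Q : Subgroup G} {K₀ : Subgroup Q} {K : Subgroup G}
    (h : ∀ f : Q →* G, Function.Injective f → (⊤ : Subgroup Q).map f = Q → K₀.map f = K) :
    (K.subgroupOf Q).Characteristic ∧ (K.subgroupOf Q).map Q.subtype = K := by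
  have htop : (⊤ : Subgroup Q).map Q.subtype = Q := by rw [← MonoidHom.range_eq_map, Subgroup.range_subtype]
  have h0 := h Q.subtype Q.subtype_injective htop
  have e : K.subgroupOf Q = K₀ := by
    rw [← h0, Subgroup.subgroupOf]; exact Subgroup.comap_map_eq_self_of_injective Q.subtype_injective K₀
  refine ⟨?_, by rw [e, h0]⟩
  rw [e, Subgroup.characteristic_iff_map_eq]
  intro φ
  refine Subgroup.map_injective Q.subtype_injective ?_
  rw [Subgroup.map_map, h0]
  exact h _ (Q.subtype_injective.comp φ.injective) (by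
    rw [← Subgroup.map_map, Subgroup.map_top_of_surjective φ.toMonoidHom φ.surjective, htop])

theorem char_meet (Q : Subgroup G) :
    ((meet p Q).subgroupOf Q).Characteristic ∧ ((meet p Q).subgroupOf Q).map Q.subtype = meet p Q :=
  char_of_natural (K₀ := meet p (⊤ : Subgroup Q)) fun f hf e => by rw [← meet_map hf, e]

theorem char_bau (Q : Subgroup G) :
    ((bau p Q).subgroupOf Q).Characteristic ∧ ((bau p Q).subgroupOf Q).map Q.subtype = bau p Q :=
  char_of_natural (K₀ := bau p (⊤ : Subgroup Q)) fun f hf e => by rw [← bau_map hf, e]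

theorem char_cent (Q : Subgroup G) :
    ((cent p Q).subgroupOf Q).Characteristic ∧ ((cent p Q).subgroupOf Q).map Q.subtype = cent p Q :=
  char_of_natural (K₀ := cent p (⊤ : Subgroup Q)) fun f hf e => by rw [← cent_map hf, e]

theorem char_thompsonJ (Q : Subgroup G) :
    ((thompsonJ p Q).subgroupOf Q).Characteristic ∧ ((thompsonJ p Q).subgroupOf Q).map Q.subtype = thompsonJ p Q :=
  char_of_natural (K₀ := thompsonJ p (⊤ : Subgroup Q)) fun f hf e => by rw [← thompsonJ_map p hf, e]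

/-- Conjugates containing all the largest ones have the same ones. -/
theorem goodMax_cm_eq {Q : Subgroup G} {g : G} (h : thompsonJ p Q ≤ cm g Q) : goodMax p (cm g Q) = goodMax p Q := by
  have e : goodMax p (cm g Q) = cm g '' goodMax p Q := goodMax_map p (MulAut.conj g).injective Q
  have hsub : goodMax p Q ⊆ goodMax p (cm g Q) := fun A hA => by
    refine ⟨(le_sSup hA : A ≤ thompsonJ p Q).trans h, hA.2.1, fun B hB hg => ?_⟩
    have h2 := hA.2.2 (cm g⁻¹ B) ((cm_mono hB).trans (cm_inv_cm g Q).le) (isGood_map _ hg)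
    rwa [card_cm] at h2
  refine (Set.eq_of_subset_of_ncard_le hsub ?_ (Set.toFinite _)).symm
  rw [e]
  exact Set.ncard_image_le (Set.toFinite _)

theorem meet_eq_of_goodMax {Q R : Subgroup G} (h : goodMax p R = goodMax p Q) : meet p R = meet p Q := by
  rw [meet, meet, h]

end CfsgLib.TransferRoot
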