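import Cfsg.Agent.Lib.RootCommute.Interface
import Cfsg.Agent.Lib.TransferRoot.Thompson
import Cfsg.Agent.Lib.KInf.Degree
import Cfsg.Agent.Lib.WeakClosed.Cores
import Cfsg.Agent.Lib.StrongFusion.LocalFree

/-!
Chief factors below `O_p` as modules, and the offenders of elementary abelian subgroups of largest order.
-/

set_option autoImplicit false
set_option linter.unusedSectionVars false
set_option linter.style.haveILetI false

namespace CfsgLib.TransferRoot

open Cfsg CfsgLib CfsgLib.StrongFusion CfsgLib.ZJ CfsgLib.KInf CfsgLib.RootCommute CfsgLib.WeakClosed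
open CfsgLib.SL2Pair (fix)
open scoped commutatorElement Pointwise

universe u

variable {Y : Type u} [Group Y] [Finite Y] {p : ℕ} [hp : Fact p.Prime]

/-- A constrained group in which neither `Z(S)` nor `B(S)` is normal. -/
structure Ctx (S : Sylow p Y) (M : Subgroup Y) : Prop where
  odd : p ≠ 2
  con : Subgroup.centralizer (pCore p Y : Set Y) ≤ pCore p Y
  le : (S : Subgroup Y) ≤ M
  ne : M ≠ ⊤
  over_le : ∀ H : Subgroup Y, (S : Subgroup Y) ≤ H → H ≠ ⊤ → H ≤ M
  z_not_normal : ¬ ((S : Subgroup Y) ⊓ Subgroup.centralizer ((S : Subgroup Y) : Set Y)).Normal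
  bau_not_normal : ¬ (bau p (S : Subgroup Y)).Normal

theorem card_map_mul_inf {G H : Type*} [Group G] [Finite G] [Group H] (f : G →* H) (A : Subgroup G) :
    Nat.card (A.map f) * Nat.card ↥(A ⊓ f.ker) = Nat.card A := by
  have h1 := Subgroup.card_mul_index ((f.comp A.subtype).ker)
  rw [Subgroup.index_ker, MonoidHom.range_comp, Subgroup.range_subtype] at h1
  rw [mul_comm, ← h1]
  congr 1
  rw [← Subgroup.card_map_of_injective (A.subtype_injective) (K := (f.comp A.subtype).ker)]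
  congr 2
  ext x
  constructor
  · rintro ⟨hxH, hxf⟩; exact ⟨⟨x, hxH⟩, hxf, rfl⟩
  · rintro ⟨⟨y, hy⟩, hy', rfl⟩; exact ⟨hy, hy'⟩

/-- The product formula. -/
theorem card_sup_mul {A B : Subgroup Y} (h : A ≤ Subgroup.normalizer (B : Set Y)) :
    Nat.card ↥(A ⊔ B) * Nat.card ↥(A ⊓ B) = Nat.card A * Nat.card B := by
  set N := Subgroup.normalizer (B : Set Y)
  haveI : (B.subgroupOf N).Normal := Subgroup.normal_in_normalizer
  set f := QuotientGroup.mk' (B.subgroupOf N)
  have hB : B ≤ N := Subgroup.le_normalizer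
  have hker : f.ker = B.subgroupOf N := QuotientGroup.ker_mk' _
  have hcard : ∀ X : Subgroup Y, X ≤ N → Nat.card (X.subgroupOf N) = Nat.card X := fun X hX =>
    Nat.card_congr (Subgroup.subgroupOfEquivOfLe hX).toEquiv
  have h1 := card_map_mul_inf f (A.subgroupOf N)
  have h2 := card_map_mul_inf f ((A ⊔ B).subgroupOf N)
  have e1 : ((A ⊔ B).subgroupOf N).map f = (A.subgroupOf N).map f := by
    rw [Subgroup.subgroupOf_sup h hB, Subgroup.map_sup,
      (Subgroup.map_eq_bot_iff _).2 hker.ge, sup_bot_eq]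
  have e2 : (A ⊔ B).subgroupOf N ⊓ f.ker = B.subgroupOf N := by
    rw [hker]
    exact inf_eq_right.2 (Subgroup.comap_mono le_sup_right)
  have e3 : A.subgroupOf N ⊓ f.ker = (A ⊓ B).subgroupOf N := by
    rw [hker]; exact (Subgroup.comap_inf A B _).symm
  rw [e1, e2, hcard _ hB, hcard _ (sup_le h hB)] at h2
  rw [e3, hcard _ (inf_le_left.trans h), hcard _ h] at h1
  calc Nat.card ↥(A ⊔ B) * Nat.card ↥(A ⊓ B)
      = Nat.card ((A.subgroupOf N).map f) * Nat.card B * Nat.card ↥(A ⊓ B) := by rw [h2]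
    _ = Nat.card A * Nat.card B := by rw [← h1]; ring

namespace Ctx

variable {S : Sylow p Y} {M : Subgroup Y}

theorem core_le (_h : Ctx S M) : pCore p Y ≤ (S : Subgroup Y) := pCore_le_sylow S

theorem sup_eq_top (h : Ctx S M) {H : Subgroup Y} (hH : ¬ H ≤ M) : (S : Subgroup Y) ⊔ H = ⊤ := by
  by_contra hne
  exact hH (le_sup_right.trans (h.over_le _ le_sup_left hne))

theorem sylow_ne_bot (h : Ctx S M) : (S : Subgroup Y) ≠ ⊥ := fun e => h.ne (top_le_iff.1 (le_trans (fun x _ => by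
  have hx : x ∈ Subgroup.centralizer (pCore p Y : Set Y) := fun y hy => by
    have hy' := h.core_le hy
    rw [e, Subgroup.mem_bot] at hy'
    rw [hy', one_mul, mul_one]
  exact e.le (h.core_le (h.con hx))) bot_le))

theorem not_le_core (h : Ctx S M) : ¬ (S : Subgroup Y) ≤ pCore p Y := fun hle => by
  refine h.bau_not_normal ?_
  obtain ⟨hc, he⟩ := char_bau (p := p) (S : Subgroup Y)
  haveI := hc
  haveI : (S : Subgroup Y).Normal := by rw [le_antisymm hle h.core_le]; infer_instance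
  rw [← he]
  exact ConjAct.normal_of_characteristic_of_normal

theorem le_core_of_normal (h : Ctx S M) {N : Subgroup Y} [hN : N.Normal] (hNM : N ≤ M) :
    (S : Subgroup Y) ⊓ N ≤ pCore p Y := by
  obtain ⟨P, hP⟩ : ∃ P : Sylow p N, (P : Subgroup N).map N.subtype = (S : Subgroup Y) ⊓ N := by
    have hidx : ¬ p ∣ (((S : Subgroup Y) ⊓ N).subgroupOf N).index :=
      not_dvd_relIndex_inf (T := (S : Subgroup Y)) (C := N) (N := ⊤) le_top S.2
        (by rw [Subgroup.relIndex_top_right]; exact S.not_dvd_index) le_top fun y _ c hc => hN.conj_mem c hc y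
    exact ⟨((S.2.to_le inf_le_left).of_equiv (Subgroup.subgroupOfEquivOfLe inf_le_right).symm).toSylow hidx,
      Subgroup.map_subgroupOf_eq_of_le inf_le_right⟩
  have htop := Sylow.normalizer_sup_eq_top P
  rw [hP] at htop
  set K := Subgroup.normalizer (((S : Subgroup Y) ⊓ N : Subgroup Y) : Set Y)
  have hSK : (S : Subgroup Y) ≤ K := fun s hs => Local.mem_normalizer_of_map_conj_eq
    (Subgroup.eq_of_le_of_card_ge (Local.map_conj_le fun x hx =>
      ⟨(S : Subgroup Y).mul_mem ((S : Subgroup Y).mul_mem hs hx.1) ((S : Subgroup Y).inv_mem hs), hN.conj_mem x hx.2 s⟩)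
      (Subgroup.card_map_of_injective (MulAut.conj s).injective).ge)
  have hK : K = ⊤ := by
    by_contra hne
    exact h.ne (top_le_iff.1 (htop ▸ sup_le (h.over_le K hSK hne) hNM))
  haveI := Subgroup.normalizer_eq_top_iff.1 hK
  exact le_pCore (S.2.to_le inf_le_left)

theorem central_le_core (h : Ctx S M) {N : Subgroup Y} [N.Normal] {x : Y}
    (hx : x ∈ Subgroup.centralizer (N : Set Y)) (hxS : x ∈ (S : Subgroup Y)) (hxO : x ∉ pCore p Y) :
    (S : Subgroup Y) ⊔ Subgroup.centralizer (N : Set Y) = ⊤ := by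
  refine h.sup_eq_top fun hle => hxO ?_
  haveI : (Subgroup.centralizer (N : Set Y)).Normal := Subgroup.normal_centralizer
  exact h.le_core_of_normal hle ⟨hxS, hx⟩

end Ctx

variable {U : Type} [AddCommGroup U] [Finite U]

/-- `N / V` as a module. -/
structure FacRep (N V : Subgroup Y) (ρ : Y →* AddMonoid.End U) (π : Y → U) : Prop where
  le : V ≤ N
  normal : N.Normal
  surj : ∀ u, ∃ y ∈ N, π y = u
  add : ∀ a ∈ N, ∀ b ∈ N, π (a * b) = π a + π b
  zero : ∀ a ∈ N, (π a = 0 ↔ a ∈ V)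
  act : ∀ g, ∀ a ∈ N, ρ g (π a) = π (g * a * g⁻¹)

namespace FacRep

variable {N V : Subgroup Y} {ρ : Y →* AddMonoid.End U} {π : Y → U}

theorem π_one (h : FacRep N V ρ π) : π 1 = 0 := (h.zero 1 (one_mem _)).2 (one_mem _)

theorem π_inv (h : FacRep N V ρ π) {a : Y} (ha : a ∈ N) : π a⁻¹ = - π a := by
  have e := h.add _ (inv_mem ha) a ha
  rw [inv_mul_cancel, h.π_one] at e
  exact eq_neg_of_add_eq_zero_left e.symm

theorem π_pow (h : FacRep N V ρ π) {a : Y} (ha : a ∈ N) (n : ℕ) : π (a ^ n) = n • π a := by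
  induction n with
  | zero => rw [pow_zero, zero_smul, h.π_one]
  | succ n ih => rw [pow_succ, h.add _ (pow_mem ha n) _ ha, ih, succ_nsmul]

theorem comm_mem (h : FacRep N V ρ π) (g : Y) {a : Y} (ha : a ∈ N) :
    π (g * a * g⁻¹ * a⁻¹) = ρ g (π a) - π a := by
  rw [h.add _ (h.normal.conj_mem a ha g) _ (inv_mem ha), h.π_inv ha, h.act g a ha, sub_eq_add_neg]

theorem restrict (h : FacRep N V ρ π) {N' : Subgroup Y} (hN' : N'.Normal) (hle : N' ≤ N)
    (hsup : N ≤ N' ⊔ V) (hV : V.Normal) : FacRep N' (N' ⊓ V) ρ π where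
  le := inf_le_left
  normal := hN'
  surj u := by
    obtain ⟨y, hy, rfl⟩ := h.surj u
    have hy' := hsup hy
    haveI := hV
    rw [← SetLike.mem_coe, Subgroup.mul_normal] at hy'
    obtain ⟨a, ha, b, hb, rfl⟩ := hy'
    exact ⟨a, ha, by rw [h.add a (hle ha) b (h.le hb), (h.zero b (h.le hb)).2 hb, add_zero]⟩
  add a ha b hb := h.add a (hle ha) b (hle hb)
  zero a ha := (h.zero a (hle ha)).trans ⟨fun hv => ⟨ha, hv⟩, fun hv => hv.2⟩
  act g a ha := h.act g a (hle ha)

/-- Counting along `π`. -/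
theorem card_inf_eq (h : FacRep N V ρ π) (C : Subgroup Y) (hC : C ≤ N) (W : AddSubgroup U)
    (hW : ∀ c ∈ C, π c ∈ W) :
    Nat.card C ≤ Nat.card W * Nat.card ↥(C ⊓ V) ∧
      (Nat.card W * Nat.card ↥(C ⊓ V) ≤ Nat.card C → ∀ w ∈ W, ∃ c ∈ C, π c = w) := by
  let f : C →* Multiplicative W :=
    { toFun := fun c => Multiplicative.ofAdd ⟨π c, hW c c.2⟩
      map_one' := congrArg Multiplicative.ofAdd (Subtype.ext h.π_one)
      map_mul' := fun a b => congrArg Multiplicative.ofAdd (Subtype.ext (h.add _ (hC a.2) _ (hC b.2))) }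
  have hker : f.ker = (C ⊓ V).subgroupOf C := by
    ext c
    rw [MonoidHom.mem_ker, Subgroup.mem_subgroupOf]
    constructor
    · intro hc
      exact ⟨c.2, (h.zero _ (hC c.2)).1 (congrArg Subtype.val (congrArg Multiplicative.toAdd hc))⟩
    · intro hc
      exact congrArg Multiplicative.ofAdd (Subtype.ext ((h.zero _ (hC c.2)).2 hc.2))
  have h1 := Subgroup.card_mul_index f.ker
  rw [Subgroup.index_ker, hker, Nat.card_congr (Subgroup.subgroupOfEquivOfLe inf_le_left).toEquiv] at h1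
  have h2 : Nat.card f.range ≤ Nat.card W := Nat.card_le_card_of_injective _ f.range.subtype_injective
  refine ⟨?_, fun hle w hw => ?_⟩
  · rw [← h1, mul_comm]; exact Nat.mul_le_mul_right _ h2
  · have h3 : f.range = ⊤ := Subgroup.eq_top_of_le_card _ (by
      show Nat.card W ≤ _
      rw [← h1, mul_comm (Nat.card ↥(C ⊓ V))] at hle
      exact Nat.le_of_mul_le_mul_right hle Nat.card_pos)
    obtain ⟨c, hc⟩ := h3.ge (Subgroup.mem_top (Multiplicative.ofAdd (⟨w, hw⟩ : W)))
    exact ⟨c, c.2, congrArg Subtype.val (congrArg Multiplicative.toAdd hc)⟩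

theorem card_eq (h : FacRep N V ρ π) : Nat.card N = Nat.card U * Nat.card V := by
  have h1 := h.card_inf_eq N le_rfl ⊤ fun _ _ => trivial
  rw [AddSubgroup.card_top, inf_eq_right.2 h.le] at h1
  refine le_antisymm h1.1 ?_
  classical
  choose s hs hsπ using h.surj
  rw [← Nat.card_prod]
  refine Nat.card_le_card_of_injective (fun x : U × V => (⟨s x.1 * x.2, mul_mem (hs _) (h.le x.2.2)⟩ : N))
    fun x y e => ?_
  have e' : s x.1 * (x.2 : Y) = s y.1 * (y.2 : Y) := congrArg Subtype.val e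
  have e1 := congrArg π e'
  rw [h.add _ (hs _) _ (h.le x.2.2), h.add _ (hs _) _ (h.le y.2.2), hsπ, hsπ, (h.zero _ (h.le x.2.2)).2 x.2.2,
    (h.zero _ (h.le y.2.2)).2 y.2.2, add_zero, add_zero] at e1
  rw [e1] at e'
  exact Prod.ext e1 (Subtype.ext (mul_left_cancel e'))

end FacRep

theorem exists_facRep {W V : Subgroup Y} (hWV : IsChiefFactor W V) (hW : W ≤ pCore p Y) :
    ∃ (U : Type) (_ : AddCommGroup U) (_ : Finite U) (ρ : Y →* AddMonoid.End U) (π : Y → U),
      FacRep W V ρ π ∧ (∀ x : U, p • x = 0) ∧ pCore p Y ≤ ρ.ker ∧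
        ∀ W' : AddSubgroup U, (∀ g, ∀ x ∈ W', ρ g x ∈ W') → W' = ⊥ ∨ W' = ⊤ := by
  classical
  obtain ⟨hlt, hWn, hVn, hch⟩ := hWV
  have hWV' : IsChiefFactor W V := ⟨hlt, hWn, hVn, hch⟩
  set mk := QuotientGroup.mk' V
  haveI hmap : (W.map mk).Normal := hWn.map mk (QuotientGroup.mk'_surjective V)
  have hab := commutator_le_of_abelian (commutator_le_of_chief (T := pCore p Y) (isPGroup_pCore p) hWV' hW |>
    fun hc => le_trans (Subgroup.commutator_mono le_rfl hW) hc)
  obtain ⟨U, _, _, σ, τ, hτs, hτadd, hτz, hσ⟩ := SL2Pair.exists_sectionRep (⊤ : Subgroup (Y ⧸ V)) (W.map mk) ⊥ bot_le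
    hab (fun g _ y hy => hmap.conj_mem y hy g) (fun g _ z hz => by rw [Subgroup.mem_bot.1 hz]; simp)
  let π : Y → U := fun y => if h : mk y ∈ W.map mk then τ ⟨mk y, h⟩ else 0
  have hπ : ∀ y (hy : y ∈ W), π y = τ ⟨mk y, Subgroup.mem_map_of_mem mk hy⟩ := fun y hy =>
    dif_pos (Subgroup.mem_map_of_mem mk hy)
  let ρ : Y →* AddMonoid.End U := σ.comp ((Subgroup.topEquiv.symm.toMonoidHom).comp mk)
  have hrep : FacRep W V ρ π :=
    { le := hlt.le
      normal := hWn
      surj := fun u => by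
        obtain ⟨⟨_, y, hy, rfl⟩, hu⟩ := hτs u
        exact ⟨y, hy, (hπ y hy).trans hu⟩
      add := fun a ha b hb => by
        rw [hπ a ha, hπ b hb, hπ _ (mul_mem ha hb), ← hτadd]
        congr 1
      zero := fun a ha => by
        rw [hπ a ha, hτz, Subgroup.mem_bot]
        exact QuotientGroup.eq_one_iff a
      act := fun g a ha => by
        rw [hπ a ha, hπ _ (hWn.conj_mem a ha g)]
        show σ ⟨mk g, trivial⟩ _ = _
        rw [hσ ⟨mk g, trivial⟩ ⟨mk a, Subgroup.mem_map_of_mem mk ha⟩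
          (hmap.conj_mem _ (Subgroup.mem_map_of_mem mk ha) _)]
        congr 1 }
  refine ⟨U, inferInstance, inferInstance, ρ, π, hrep, fun x => ?_, fun t ht => ?_, fun W' hW' => ?_⟩
  · obtain ⟨y, hy, rfl⟩ := hrep.surj x
    rw [← hrep.π_pow hy]
    exact (hrep.zero _ (pow_mem hy p)).2 (pow_mem_of_chief hWV' ((isPGroup_pCore p).to_le hW) hy)
  · refine AddMonoidHom.ext fun x => ?_
    obtain ⟨y, hy, rfl⟩ := hrep.surj x
    show ρ t (π y) = π y
    rw [← sub_eq_zero, ← hrep.comm_mem t hy, hrep.zero _ (mul_mem (hWn.conj_mem y hy t) (inv_mem hy))]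
    rw [show t * y * t⁻¹ * y⁻¹ = ⁅y, t⁆⁻¹ by simp only [commutatorElement_def]; group]
    exact inv_mem (commutator_le_of_chief (isPGroup_pCore p) hWV' hW (Subgroup.commutator_mem_commutator hy ht))
  · let N : Subgroup Y :=
      { carrier := {y | y ∈ W ∧ π y ∈ W'}
        one_mem' := ⟨one_mem _, by rw [hrep.π_one]; exact zero_mem _⟩
        mul_mem' := fun {a b} ha hb => ⟨mul_mem ha.1 hb.1, by rw [hrep.add a ha.1 b hb.1]; exact add_mem ha.2 hb.2⟩
        inv_mem' := fun {a} ha => ⟨inv_mem ha.1, by rw [hrep.π_inv ha.1]; exact neg_mem ha.2⟩ }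
    have hNn : N.Normal := ⟨fun y hy g => ⟨hWn.conj_mem y hy.1 g, by
      rw [← hrep.act g y hy.1]; exact hW' g _ hy.2⟩⟩
    rcases hch N hNn (fun v hv => ⟨hlt.le hv, by rw [(hrep.zero v (hlt.le hv)).2 hv]; exact zero_mem _⟩)
      (fun y hy => hy.1) with e | e
    · refine Or.inl ((AddSubgroup.eq_bot_iff_forall _).2 fun x hx => ?_)
      obtain ⟨y, hy, rfl⟩ := hrep.surj x
      exact (hrep.zero y hy).2 (e.le (show y ∈ N from ⟨hy, hx⟩))
    · refine Or.inr (eq_top_iff.2 fun x _ => ?_)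
      obtain ⟨y, hy, rfl⟩ := hrep.surj x
      exact (e.ge hy).2

variable (ρ : Y →* AddMonoid.End U)

/-- The faithful action. -/
def bar : Y ⧸ ρ.ker →* AddMonoid.End U := QuotientGroup.lift ρ.ker ρ le_rfl

theorem bar_mk (g : Y) : bar ρ (QuotientGroup.mk' ρ.ker g) = ρ g := rfl

theorem bar_injective : Function.Injective (bar ρ) := by
  intro a b e
  obtain ⟨g, rfl⟩ := QuotientGroup.mk'_surjective ρ.ker a
  obtain ⟨h, rfl⟩ := QuotientGroup.mk'_surjective ρ.ker b
  rw [bar_mk, bar_mk] at e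
  refine QuotientGroup.eq.2 (MonoidHom.mem_ker.2 ?_)
  rw [map_mul, ← e, ← map_mul, inv_mul_cancel, map_one]

theorem fix_bar (A : Subgroup Y) : fix (bar ρ) (A.map (QuotientGroup.mk' ρ.ker)) = fix ρ A :=
  AddSubgroup.ext fun u => ⟨fun h a ha => h _ ⟨a, ha, rfl⟩, fun h a' ha' => by
    obtain ⟨a, ha, rfl⟩ := ha'
    exact h a ha⟩

/-- The image of `S` in the faithful quotient. -/
noncomputable def sylowBar (S : Sylow p Y) : Sylow p (Y ⧸ ρ.ker) :=
  S.mapSurjective (QuotientGroup.mk'_surjective ρ.ker)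

variable {ρ}

theorem setting_of_factor {S : Sylow p Y} {M : Subgroup Y} (h : Ctx S M) (hU : ∀ x : U, p • x = 0)
    (hirr : ∀ W : AddSubgroup U, (∀ g, ∀ x ∈ W, ρ g x ∈ W) → W = ⊥ ∨ W = ⊤)
    (hne : ∃ g u, ρ g u ≠ u) :
    Setting (bar ρ) (sylowBar ρ S) (M.map (QuotientGroup.mk' ρ.ker)) ∧ ρ.ker ≤ M := by
  set mk := QuotientGroup.mk' ρ.ker
  have hfix : ∀ E : Subgroup Y, (∀ g, ∀ x ∈ fix ρ E, ρ g x ∈ fix ρ E) → (∃ x ∈ fix ρ E, x ≠ 0) →
      fix ρ E = ⊤ := fun E hE ⟨x, hx, hx0⟩ => (hirr _ hE).resolve_left fun e => hx0 (by rwa [e] at hx)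
  obtain ⟨g₀, u₀, hg₀⟩ := hne
  have hUne : (⊤ : AddSubgroup U) ≠ ⊥ := fun e => hg₀ (by
    have hz : ∀ u : U, u = 0 := fun u => AddSubgroup.mem_bot.1 (e ▸ AddSubgroup.mem_top u)
    rw [hz (ρ g₀ u₀), hz u₀])
  have hker : ρ.ker ≤ M := by
    refine le_sup_right.trans (h.over_le _ le_sup_left fun e => hg₀ ?_)
    have hall : ∀ g : Y, ∃ s ∈ (S : Subgroup Y), ρ g = ρ s := fun g => by
      have hg := e.ge (Subgroup.mem_top g)
      rw [← SetLike.mem_coe, Subgroup.mul_normal] at hg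
      obtain ⟨s, hs, k, hk, rfl⟩ := hg
      exact ⟨s, hs, by rw [map_mul, MonoidHom.mem_ker.1 hk, mul_one]⟩
    obtain ⟨w, -, hw0, hw⟩ := exists_fix ρ hU S.2 (W := ⊤) (fun _ _ _ _ => trivial) hUne
    obtain ⟨s, hs, e'⟩ := hall g₀
    have := hfix S (fun g x hx => by
      obtain ⟨t, ht, et⟩ := hall g
      rw [et, hx t ht]; exact hx) ⟨w, hw, hw0⟩
    rw [e']
    exact this.ge (AddSubgroup.mem_top u₀) s hs
  have hcomap : (M.map mk).comap mk = M := by
    rw [Subgroup.comap_map_eq, QuotientGroup.ker_mk', sup_eq_left.2 hker]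
  refine ⟨⟨bar_injective ρ, h.odd, hU, fun x hx => ?_, fun W hW => ?_, Subgroup.map_mono h.le, fun e => h.ne ?_,
    fun H hH hne => ?_, fun N hN hNp => ?_⟩, hker⟩
  · by_contra hx0
    have := hfix ⊤ (fun g y hy a _ => by
      rw [hy g trivial]; exact hy a trivial) ⟨x, fun a _ => hx (mk a), hx0⟩
    exact hg₀ (this.ge (AddSubgroup.mem_top u₀) g₀ trivial)
  · refine (hirr W fun g y hy => ?_).resolve_left fun e => hg₀ ?_
    · have := add_mem (hW (mk g) y) hy
      rwa [bar_mk, sub_add_cancel] at this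
    · have := hW (mk g₀) u₀
      rwa [e, AddSubgroup.mem_bot, bar_mk, sub_eq_zero] at this
  · rw [← hcomap, e, Subgroup.comap_top]
  · refine Subgroup.map_comap_eq_self_of_surjective (QuotientGroup.mk'_surjective ρ.ker) H ▸ Subgroup.map_mono
      (h.over_le _ (fun s hs => hH ⟨s, hs, rfl⟩) fun e => hne ?_)
    rw [← Subgroup.map_comap_eq_self_of_surjective (QuotientGroup.mk'_surjective ρ.ker) H, e,
      Subgroup.map_top_of_surjective mk (QuotientGroup.mk'_surjective ρ.ker)]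
  · obtain ⟨w, -, hw0, hw⟩ := exists_fix (bar ρ) hU hNp (W := ⊤) (fun _ _ _ _ => trivial) hUne
    have hall := hfix (N.comap mk) (fun g y hy a ha => by
      have h1 := hy (g⁻¹ * a * g) (by
        show mk (g⁻¹ * a * g) ∈ N
        simpa using hN.conj_mem (mk a) ha (mk g)⁻¹)
      calc ρ a (ρ g y) = ρ g (ρ (g⁻¹ * a * g) y) := by
            rw [← act_mul, ← act_mul]; congr 2; group
        _ = ρ g y := by rw [h1]) ⟨w, fun a ha => hw (mk a) ha, hw0⟩
    refine (Subgroup.eq_bot_iff_forall _).2 fun n hn => bar_injective ρ (AddMonoidHom.ext fun y => ?_)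
    obtain ⟨a, rfl⟩ := QuotientGroup.mk'_surjective ρ.ker n
    rw [map_one]
    exact hall.ge (AddSubgroup.mem_top y) a hn

end CfsgLib.TransferRoot
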