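import Cfsg.Agent.Lib.TransferRoot.Offend

/-!
The distinguished module: the meet of the elementary abelian subgroups of largest order of `O_p` has a single
noncentral chief factor, and the offenders there are exact.
-/

set_option autoImplicit false
set_option linter.unusedSectionVars false
set_option linter.style.haveILetI false

namespace CfsgLib.TransferRoot

open Cfsg CfsgLib CfsgLib.StrongFusion CfsgLib.ZJ CfsgLib.KInf CfsgLib.RootCommute CfsgLib.WeakClosed
open CfsgLib.SL2Pair (fix)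

universe u

variable {Y : Type u} [Group Y] [Finite Y] {p : ℕ} [hp : Fact p.Prime]

/-- A subgroup with a Sylow subgroup and all elements of order prime to `p` is everything. -/
theorem eq_top_of_sylow_coprime (S : Sylow p Y) {H : Subgroup Y} (hS : (S : Subgroup Y) ≤ H)
    (hH : ∀ g : Y, ¬ p ∣ orderOf g → g ∈ H) : H = ⊤ := by
  rw [← Subgroup.index_eq_one]
  by_contra hne
  obtain ⟨q, hq, hqd⟩ := Nat.exists_prime_and_dvd hne
  rcases eq_or_ne q p with rfl | hqp
  · exact S.not_dvd_index (hqd.trans (Subgroup.index_dvd_of_le hS))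
  haveI : Fact q.Prime := ⟨hq⟩
  obtain ⟨Q⟩ := (inferInstance : Nonempty (Sylow q Y))
  refine Q.not_dvd_index (hqd.trans (Subgroup.index_dvd_of_le fun g hg => hH g fun hd => ?_))
  obtain ⟨k, hk⟩ := Q.2 ⟨g, hg⟩
  have h1 : p ∣ q ^ k := hd.trans (orderOf_dvd_of_pow_eq_one (by simpa using congrArg Subtype.val hk))
  exact hqp ((Nat.prime_dvd_prime_iff_eq hp.out hq).1 (hp.out.dvd_of_dvd_pow h1)).symm

/-- An element of order prime to `p` fixing a series in an elementary abelian group fixes it. -/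
theorem fix_of_series {g w : Y} (hg : ¬ p ∣ orderOf g) (hw : ∃ j : ℕ, (g * w * g⁻¹ * w⁻¹) ^ p ^ j = 1)
    (hfix : g * (g * w * g⁻¹ * w⁻¹) * g⁻¹ = g * w * g⁻¹ * w⁻¹) : g * w * g⁻¹ = w := by
  set k := g * w * g⁻¹ * w⁻¹ with hk
  have e : g * w * g⁻¹ = k * w := by rw [hk]; group
  have hpow : ∀ n : ℕ, g ^ n * w * (g ^ n)⁻¹ = k ^ n * w := by
    intro n
    induction n with
    | zero => simp
    | succ n ih =>
      have hcomm : g * k ^ n * g⁻¹ = k ^ n := by
        rw [← conj_pow, hfix]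
      calc g ^ (n + 1) * w * (g ^ (n + 1))⁻¹ = g * (g ^ n * w * (g ^ n)⁻¹) * g⁻¹ := by
            rw [pow_succ']; group
        _ = (g * k ^ n * g⁻¹) * (g * w * g⁻¹) := by rw [ih]; group
        _ = k ^ (n + 1) * w := by rw [hcomm, pow_succ, mul_assoc (k ^ n) k w, ← e]
  have h1 := hpow (orderOf g)
  rw [pow_orderOf_eq_one, inv_one, mul_one, one_mul, eq_comm, mul_eq_right] at h1
  obtain ⟨j, hw⟩ := hw
  have h2 : k = 1 := orderOf_eq_one_iff.1 (Nat.Coprime.eq_one_of_dvd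
    (((hp.out.coprime_iff_not_dvd.2 hg).pow_left j).coprime_dvd_left (orderOf_dvd_of_pow_eq_one hw))
    (orderOf_dvd_of_pow_eq_one h1))
  rw [e, h2, one_mul]

/-- What the rest of the proof uses. -/
structure Data (S : Sylow p Y) (M : Subgroup Y) {U : Type} [AddCommGroup U] [Finite U] (ρ : Y →* AddMonoid.End U)
    (π : Y → U) (X : Subgroup (Y ⧸ ρ.ker)) (N₁ N₂ : Subgroup Y) : Prop where
  ctx : Ctx S M
  rep : FacRep N₁ N₂ ρ π
  smul_zero : ∀ x : U, p • x = 0
  normal₂ : N₂.Normal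
  ker_le : ρ.ker ≤ M
  core_le_ker : pCore p Y ≤ ρ.ker
  setting : Setting (bar ρ) (sylowBar ρ S) (M.map (QuotientGroup.mk' ρ.ker))
  root : RootProduct (bar ρ) (sylowBar ρ S) (M.map (QuotientGroup.mk' ρ.ker)) X
  image_le : ∀ A ∈ goodMax p (S : Subgroup Y), A.map (QuotientGroup.mk' ρ.ker) ≤ X
  cent₂ : ∀ A ∈ goodMax p (S : Subgroup Y), N₂ ≤ Subgroup.centralizer (A : Set Y)
  lift : ∀ A ∈ goodMax p (S : Subgroup Y), ∀ w ∈ fix ρ A,
    ∃ c ∈ N₁ ⊓ Subgroup.centralizer (A : Set Y), π c = w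
  split : ∀ A ∈ goodMax p (S : Subgroup Y),
    meet p (pCore p Y) ≤ N₁ ⊔ (meet p (pCore p Y) ⊓ Subgroup.centralizer (A : Set Y))
  le_meet : N₁ ≤ meet p (pCore p Y)
  meet_le : meet p (S : Subgroup Y) ≤ meet p (pCore p Y)
  outside : ∃ A ∈ goodMax p (S : Subgroup Y), ¬ A ≤ pCore p Y ∧
    IsOffender (bar ρ) p (A.map (QuotientGroup.mk' ρ.ker))
  offends : ∀ A ∈ goodMax p (S : Subgroup Y), ∀ x ∈ A ⊓ pCore p Y, ∀ y ∈ meet p (pCore p Y), x * y = y * x

theorem meet_normal : (meet p (pCore p Y)).Normal := by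
  obtain ⟨hc, he⟩ := char_meet (p := p) (pCore p Y)
  haveI := hc
  rw [← he]
  exact ConjAct.normal_of_characteristic_of_normal

theorem meet_isGood (Q : Subgroup Y) : IsGood p (meet p Q) :=
  ⟨fun _ hx _ hy => meet_comm hx hy, fun _ hx => meet_pow hx⟩

/-- The centre of `O_p`. -/
def zc (p : ℕ) (Y : Type*) [Group Y] : Subgroup Y := pCore p Y ⊓ Subgroup.centralizer (pCore p Y : Set Y)

theorem zc_normal : (zc p Y).Normal := by
  haveI : (Subgroup.centralizer (pCore p Y : Set Y)).Normal := Subgroup.normal_centralizer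
  exact Subgroup.normal_inf_normal _ _

theorem cent_core_le_zc : cent p (pCore p Y) ≤ zc p Y := fun _ hx => ⟨hx.1, fun y hy => hx.2.2 y hy⟩

theorem cent_normal : (cent p (pCore p Y)).Normal := by
  obtain ⟨hc, he⟩ := char_cent (p := p) (pCore p Y)
  haveI := hc
  rw [← he]
  exact ConjAct.normal_of_characteristic_of_normal

/-- An element of order prime to `p` fixing the central elements of order `p` of `O_p` fixes its centre. -/
theorem fix_zc {g : Y} (hg : ¬ p ∣ orderOf g) (hfix : ∀ x ∈ cent p (pCore p Y), g * x * g⁻¹ = x) :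
    ∀ x ∈ zc p Y, g * x * g⁻¹ = x := by
  have key : ∀ n : ℕ, ∀ x ∈ zc p Y, x ^ p ^ n = 1 → g * x * g⁻¹ = x := by
    intro n
    induction n with
    | zero => intro x _ h1; rw [pow_zero, pow_one] at h1; simp [h1]
    | succ n ih =>
      intro x hx h1
      have hp' := ih _ (pow_mem hx p) (by rw [← pow_mul, ← pow_succ']; exact h1)
      set k := g * x * g⁻¹ * x⁻¹ with hk
      have hkz : k ∈ zc p Y := mul_mem (zc_normal.conj_mem x hx g) (inv_mem hx)
      have hkp : k ^ p = 1 := by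
        have c : Commute (g * x * g⁻¹) x⁻¹ :=
          Commute.inv_right ((zc_normal.conj_mem x hx g).2 x hx.1).symm
        rw [hk, c.mul_pow, conj_pow, hp', inv_pow, mul_inv_cancel]
      exact fix_of_series hg ⟨1, by rw [pow_one]; exact hkp⟩ (hfix k ⟨hkz.1, hkp, fun q hq => hkz.2 q hq⟩)
  intro x hx
  obtain ⟨n, hn⟩ := isPGroup_pCore p ⟨x, hx.1⟩
  exact key n x hx (congrArg Subtype.val hn)

/-- The elements of order prime to `p` do not all centralise the central elements of order `p` of `O_p`. -/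
theorem cent_moved {S : Sylow p Y} {M : Subgroup Y} (h : Ctx S M)
    (hall : ∀ g : Y, ¬ p ∣ orderOf g → ∀ x ∈ cent p (pCore p Y), g * x * g⁻¹ = x) : False := by
  haveI := zc_normal (p := p) (Y := Y)
  haveI : (Subgroup.centralizer (zc p Y : Set Y)).Normal := Subgroup.normal_centralizer
  set C := Subgroup.centralizer (zc p Y : Set Y)
  have hcop : ∀ g : Y, ¬ p ∣ orderOf g → g ∈ C := fun g hg x hx =>
    (mul_inv_eq_iff_eq_mul.1 (fix_zc hg (hall g hg) x hx)).symm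
  have hCM : ¬ C ≤ M := fun hle => h.ne (eq_top_of_sylow_coprime S h.le fun g hg => hle (hcop g hg))
  refine h.z_not_normal ⟨fun x hx t => ?_⟩
  have hxz : x ∈ zc p Y := by
    have h1 : x ∈ Subgroup.centralizer (pCore p Y : Set Y) := fun y hy => hx.2 y (h.core_le hy)
    exact ⟨h.con h1, h1⟩
  have ht := (h.sup_eq_top hCM).ge (Subgroup.mem_top t)
  rw [← SetLike.mem_coe, Subgroup.mul_normal] at ht
  obtain ⟨s, hs, c, hc, rfl⟩ := ht
  have e1 : c * x = x * c := (hc x hxz).symm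
  have e2 : s * x = x * s := hx.2 s hs
  rw [show s * c * x * (s * c)⁻¹ = s * (c * x * c⁻¹) * s⁻¹ by group,
    show c * x * c⁻¹ = x by rw [e1]; group, show s * x * s⁻¹ = x by rw [e2]; group]
  exact hx

/-- Some elementary abelian subgroup of largest order lies outside `O_p`. -/
theorem exists_outside {S : Sylow p Y} {M : Subgroup Y} (h : Ctx S M) :
    ∃ A ∈ goodMax p (S : Subgroup Y), ¬ A ≤ pCore p Y := by
  by_contra hcon
  push Not at hcon
  set O := pCore p Y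
  obtain ⟨A₀, hA₀⟩ := goodMax_nonempty p (S : Subgroup Y)
  have e : goodMax p O = goodMax p (S : Subgroup Y) := by
    ext A
    exact ⟨fun hA => ⟨hA.1.trans h.core_le, hA.2.1, fun B hB hBg =>
        (hA₀.2.2 B hB hBg).trans (hA.2.2 _ (hcon A₀ hA₀) hA₀.2.1)⟩,
      fun hA => ⟨hcon A hA, hA.2.1, fun B hB hBg => hA.2.2 B (hB.trans h.core_le) hBg⟩⟩
  have eE : meet p O = meet p (S : Subgroup Y) := meet_eq_of_goodMax e
  haveI := meet_normal (p := p) (Y := Y)
  haveI : (Subgroup.centralizer (meet p O : Set Y)).Normal := Subgroup.normal_centralizer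
  set C := Subgroup.centralizer (meet p O : Set Y)
  by_cases hCM : C ≤ M
  · refine h.bau_not_normal ?_
    have e2 : bau p (S : Subgroup Y) = O ⊓ C := by
      rw [bau, ← eE]
      exact le_antisymm (le_inf (h.le_core_of_normal hCM) inf_le_right) (inf_le_inf_right _ h.core_le)
    rw [e2]
    exact Subgroup.normal_inf_normal _ _
  refine cent_moved h fun g hg x hx => ?_
  suffices hgC : g ∈ C by rw [← hgC x (cent_le_meet _ hx)]; group
  have ht := (h.sup_eq_top hCM).ge (Subgroup.mem_top g)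
  rw [← SetLike.mem_coe, Subgroup.mul_normal] at ht
  obtain ⟨s, hs, k, hk, rfl⟩ := ht
  obtain ⟨n, hn⟩ := S.2 ⟨s, hs⟩
  have h1 : (QuotientGroup.mk (s * k) : Y ⧸ C) ^ p ^ n = 1 := by
    rw [QuotientGroup.mk_mul_of_mem s hk, ← QuotientGroup.mk_pow,
      show s ^ p ^ n = 1 from congrArg Subtype.val hn, QuotientGroup.mk_one]
  exact (QuotientGroup.eq_one_iff _).1 (orderOf_eq_one_iff.1 (Nat.Coprime.eq_one_of_dvd
    (((hp.out.coprime_iff_not_dvd.2 hg).pow_left n).coprime_dvd_left (orderOf_dvd_of_pow_eq_one h1))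
    (orderOf_map_dvd (QuotientGroup.mk' C) _)))

theorem exists_noncentral {S : Sylow p Y} {M : Subgroup Y} (h : Ctx S M) :
    ∃ W V, IsChiefFactor W V ∧ W ≤ cent p (pCore p Y) ∧
      ∃ w ∈ W, ∃ g : Y, g * w * g⁻¹ * w⁻¹ ∉ V := by
  classical
  by_contra hcon
  push Not at hcon
  set K := cent p (pCore p Y)
  have hall : ∀ g : Y, ¬ p ∣ orderOf g → ∀ k, ∀ W : Subgroup Y, W.Normal → W ≤ K → Nat.card W = k →
      ∀ w ∈ W, g * w * g⁻¹ = w := by
    intro g hg k
    induction k using Nat.strong_induction_on with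
    | h k ih =>
    intro W hWn hWK hWk w hw
    haveI := hWn
    by_cases hW0 : W = ⊥
    · rw [hW0, Subgroup.mem_bot] at hw
      simp [hw]
    obtain ⟨V, -, hWV⟩ := exists_chief_between (U := W) (W := ⊥) (bot_lt_iff_ne_bot.2 hW0)
    have hVlt : Nat.card V < k := hWk ▸ lt_of_le_of_ne (Subgroup.card_le_of_le hWV.1.le)
      fun e => hWV.1.ne (Subgroup.eq_of_le_of_card_ge hWV.1.le e.ge)
    have hk := hcon W V hWV hWK w hw g
    exact fix_of_series hg ⟨1, by rw [pow_one]; exact (hWK (mul_mem (hWn.conj_mem w hw g) (inv_mem hw))).2.1⟩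
      (ih _ hVlt V hWV.2.2.1 (hWV.1.le.trans hWK) rfl _ hk)
  exact cent_moved h fun g hg x hx => hall g hg _ K cent_normal le_rfl rfl x hx

/-- The module, given the structure theorem for irreducible modules with an offender. -/
theorem exists_data {S : Sylow p Y} {M : Subgroup Y} (h : Ctx S M)
    (hroot : ∀ {P : Type u} [Group P] [Finite P] {U : Type} [AddCommGroup U] [Finite U] (σ : P →* AddMonoid.End U)
      (T : Sylow p P) (M₀ : Subgroup P), Setting σ T M₀ → (∃ E, IsOffender σ p E) →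
        ∃ X, RootProduct σ T M₀ X) :
    ∃ (U : Type) (_ : AddCommGroup U) (_ : Finite U) (ρ : Y →* AddMonoid.End U) (π : Y → U)
      (X : Subgroup (Y ⧸ ρ.ker)) (N₁ N₂ : Subgroup Y), Data S M ρ π X N₁ N₂ := by
  classical
  set O := pCore p Y
  set V := cent p O
  obtain ⟨W, V', hWV, hWV0, w, hw, g, hgw⟩ := exists_noncentral h
  haveI hEn : (meet p O).Normal := meet_normal
  have hVO : V ≤ O := fun x hx => hx.1
  have hVE : V ≤ meet p O := cent_le_meet O
  have hgV : IsGood p V := ⟨fun x hx y hy => meet_comm (hVE hx) (hVE hy), fun x hx => meet_pow (hVE hx)⟩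
  have hVZ : ∀ A ∈ goodMax p (S : Subgroup Y), ∀ x ∈ A ⊓ O, ∀ y ∈ V, x * y = y * x :=
    fun A hA x hx y hy => hy.2.2 x hx.2
  have hWO : W ≤ O := hWV0.trans hVO
  obtain ⟨U, _, _, ρ, π, hrep, hU, hOker, hirr⟩ := exists_facRep hWV hWO
  have hne : ∃ g u, ρ g u ≠ u := ⟨g, π w, fun e => hgw (by
    rw [← hrep.zero _ (mul_mem (hrep.normal.conj_mem w hw g) (inv_mem hw)), hrep.comm_mem g hw, e, sub_self])⟩
  obtain ⟨hset, hkerM⟩ := setting_of_factor h hU hirr hne
  set mk := QuotientGroup.mk' ρ.ker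
  have hgW : IsGood p W := ⟨fun x hx y hy => hgV.1 x (hWV0 hx) y (hWV0 hy), fun x hx => hgV.2 x (hWV0 hx)⟩
  have hout : ∃ A ∈ goodMax p (S : Subgroup Y), ¬ A ≤ O := exists_outside h
  obtain ⟨A₁, hA₁, hA₁O⟩ := hout
  have hoffW : ∀ A ∈ goodMax p (S : Subgroup Y), ¬ A ≤ O → IsOffender (bar ρ) p (A.map mk) := fun A hA hAO =>
    isOffender h hOker hkerM hrep hA hAO hWO hgW fun x hx y hy => hVZ A hA x hx y (hWV0 hy)
  obtain ⟨X, hX⟩ := hroot (bar ρ) (sylowBar ρ S) (M.map mk) hset ⟨_, hoffW A₁ hA₁ hA₁O⟩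
  have himg : ∀ A ∈ goodMax p (S : Subgroup Y), A.map mk ≤ X := by
    intro A hA
    by_cases hAO : A ≤ O
    · rintro _ ⟨a, ha, rfl⟩
      rw [show mk a = 1 from (QuotientGroup.eq_one_iff a).2 (hOker (hAO ha))]
      exact one_mem _
    · exact hX.mem_of_offender _ (Subgroup.map_mono hA.1) (hoffW A hA hAO)
  have hbound : ∀ A ∈ goodMax p (S : Subgroup Y), Nat.card (A.map mk) * Nat.card (fix ρ A) ≤ Nat.card U := by
    intro A hA
    have := hX.bound (A.map mk) (Subgroup.map_mono hA.1)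
      (by rintro _ ⟨a, ha, rfl⟩ _ ⟨b, hb, rfl⟩; rw [← map_mul, hA.2.1.1 a ha b hb, map_mul])
      (by rintro _ ⟨a, ha, rfl⟩; rw [← map_pow, hA.2.1.2 a ha, map_one])
    rwa [mu, fix_bar] at this
  -- exactness on `V` puts members into `O`
  have hO_max : ∀ A ∈ goodMax p (S : Subgroup Y), (A ⊓ O ⊔ V : Subgroup Y) ∈ goodMax p (S : Subgroup Y) :=
    fun A hA => (exact_of_bound h hOker hkerM hrep hA hWV0 hVO hgV (hVZ A hA) (hbound A hA)).1
  have hsubO : ∀ B ∈ goodMax p O, B ∈ goodMax p (S : Subgroup Y) := by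
    intro B hB
    have h0 := hO_max A₁ hA₁
    exact ⟨hB.1.trans h.core_le, hB.2.1, fun C hC hCg =>
      (h0.2.2 C hC hCg).trans (hB.2.2 _ (sup_le inf_le_right hVO) h0.2.1)⟩
  have hOmax : ∀ B ∈ goodMax p (S : Subgroup Y), B ≤ O → B ∈ goodMax p O := fun B hB hBO =>
    ⟨hBO, hB.2.1, fun C hC hCg => hB.2.2 C (hC.trans h.core_le) hCg⟩
  have hoff : ∀ A ∈ goodMax p (S : Subgroup Y), ∀ x ∈ A ⊓ O, ∀ y ∈ meet p O, x * y = y * x := by
    intro A hA x hx y hy
    exact meet_commutes (hOmax _ (hO_max A hA) (sup_le inf_le_right hVO)) hy (Subgroup.mem_sup_left hx)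
  have hex := fun A hA => exact_of_bound h hOker hkerM hrep hA (hWV0.trans hVE) (meet_le O) (meet_isGood O)
    (hoff A hA) (hbound A hA)
  exact ⟨U, inferInstance, inferInstance, ρ, π, X, W, V', h, hrep, hU, hWV.2.2.1, hkerM, hOker, hset, hX, himg,
    fun A hA => (hex A hA).2.1, fun A hA => (hex A hA).2.2.1, fun A hA => (hex A hA).2.2.2, hWV0.trans hVE,
    fun x hx => mem_meet.2 fun B hB => mem_meet.1 hx B (hsubO B hB), ⟨A₁, hA₁, hA₁O, hoffW A₁ hA₁ hA₁O⟩, hoff⟩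

namespace Data

variable {S : Sylow p Y} {M : Subgroup Y} {U : Type} [AddCommGroup U] [Finite U] {ρ : Y →* AddMonoid.End U}
  {π : Y → U} {X : Subgroup (Y ⧸ ρ.ker)} {N₁ N₂ : Subgroup Y}

theorem mem_centralizer (d : Data S M ρ π X N₁ N₂) {A : Subgroup Y} (hA : A ∈ goodMax p (S : Subgroup Y)) {v : Y}
    (hv : v ∈ N₁) (hfix : π v ∈ fix ρ A) : v ∈ Subgroup.centralizer (A : Set Y) := by
  obtain ⟨c, hc, e⟩ := d.lift A hA _ hfix
  have h2 : c⁻¹ * v ∈ N₂ := (d.rep.zero _ (mul_mem (inv_mem hc.1) hv)).1 (by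
    rw [d.rep.add _ (inv_mem hc.1) _ hv, d.rep.π_inv hc.1, e, neg_add_cancel])
  have h3 := mul_mem hc.2 (d.cent₂ A hA h2)
  rwa [mul_inv_cancel_left] at h3

theorem mem_meet_of (d : Data S M ρ π X N₁ N₂) {e : Y} (he : e ∈ meet p (pCore p Y))
    (hc : ∀ A ∈ goodMax p (S : Subgroup Y), e ∈ Subgroup.centralizer (A : Set Y)) : e ∈ meet p (S : Subgroup Y) :=
  mem_meet_of_commutes (d.ctx.core_le (TransferRoot.meet_le _ he)) (meet_pow he) fun A hA a ha => hc A hA a ha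

theorem lift_fix (d : Data S M ρ π X N₁ N₂) {v : Y} (hv : v ∈ N₁) (hfix : π v ∈ fix (bar ρ) X) :
    v ∈ meet p (S : Subgroup Y) :=
  d.mem_meet_of (d.le_meet hv) fun A hA => d.mem_centralizer hA hv fun a ha =>
    hfix _ (d.image_le A hA ⟨a, ha, rfl⟩)

/-- Commutators with the members fall into the meet of the Sylow subgroup. -/
theorem comm_mem (d : Data S M ρ π X N₁ N₂) {A : Subgroup Y} (hA : A ∈ goodMax p (S : Subgroup Y)) {a e : Y}
    (ha : a ∈ A) (he : e ∈ meet p (pCore p Y)) : a * e * a⁻¹ * e⁻¹ ∈ meet p (S : Subgroup Y) := by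
  haveI := d.rep.normal
  have h1 := d.split A hA he
  rw [← SetLike.mem_coe, Subgroup.normal_mul] at h1
  obtain ⟨v, hv, c, hc, rfl⟩ := h1
  have e1 : a * c = c * a := hc.2 a ha
  rw [show a * (v * c) * a⁻¹ * (v * c)⁻¹ = a * v * (a⁻¹ * (a * c)) * a⁻¹ * c⁻¹ * v⁻¹ by group, e1,
    show a * v * (a⁻¹ * (c * a)) * a⁻¹ * c⁻¹ * v⁻¹ = a * v * a⁻¹ * v⁻¹ by group]
  refine d.lift_fix (mul_mem (d.rep.normal.conj_mem v hv a) (inv_mem hv)) ?_
  rw [d.rep.comm_mem a hv]
  exact d.root.quad (sub_mem_img (bar ρ) (d.image_le A hA ⟨a, ha, rfl⟩) (π v))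

theorem bau_image_le (d : Data S M ρ π X N₁ N₂) :
    (bau p (S : Subgroup Y)).map (QuotientGroup.mk' ρ.ker) ≤ X := by
  rintro _ ⟨b, hb, rfl⟩
  refine d.root.mem_of_fixes _ ⟨b, hb.1, rfl⟩ fun u hu => ?_
  obtain ⟨v, hv, rfl⟩ := d.rep.surj u
  rw [bar_mk, d.rep.act b v hv]
  have e : v * b = b * v := hb.2 v (d.lift_fix hv hu)
  congr 1
  rw [← e]; group

theorem bau_centralizes₂ (d : Data S M ρ π X N₁ N₂) {x : Y} (hx : x ∈ N₂) : x ∈ meet p (S : Subgroup Y) :=
  d.mem_meet_of (d.le_meet (d.rep.le hx)) fun A hA => d.cent₂ A hA hx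

/-- Elements of order prime to `p` act trivially below and above the factor. -/
theorem coprime_trivial (d : Data S M ρ π X N₁ N₂) {g : Y} (hg : ¬ p ∣ orderOf g) :
    (∀ x ∈ N₂, g * x * g⁻¹ = x) ∧ ∀ e ∈ meet p (pCore p Y), g * e * g⁻¹ * e⁻¹ ∈ N₁ := by
  obtain ⟨A, hA, hAO, -⟩ := d.outside
  obtain ⟨a, ha, haO⟩ := SetLike.not_le_iff_exists.1 hAO
  have key : ∀ (K : Subgroup Y) [K.Normal], a ∈ K → g ∈ K ∨ ∃ s ∈ (S : Subgroup Y), ∃ k ∈ K, g = s * k := by
    intro K _ haK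
    have hK : ¬ K ≤ M := fun hle => haO (d.ctx.le_core_of_normal hle ⟨hA.1 ha, haK⟩)
    have := (d.ctx.sup_eq_top hK).ge (Subgroup.mem_top g)
    rw [← SetLike.mem_coe, Subgroup.mul_normal] at this
    obtain ⟨s, hs, k, hk, e⟩ := this
    exact Or.inr ⟨s, hs, k, hk, e.symm⟩
  have pquot : ∀ (K : Subgroup Y) [K.Normal], a ∈ K → g ∈ K := by
    intro K _ haK
    rcases key K haK with h | ⟨s, hs, k, hk, e⟩
    · exact h
    obtain ⟨n, hn⟩ := S.2 ⟨s, hs⟩
    have h1 : (QuotientGroup.mk g : Y ⧸ K) ^ p ^ n = 1 := by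
      rw [e, QuotientGroup.mk_mul_of_mem s hk, ← QuotientGroup.mk_pow,
        show s ^ p ^ n = 1 from congrArg Subtype.val hn, QuotientGroup.mk_one]
    have h2 : orderOf (QuotientGroup.mk g : Y ⧸ K) ∣ orderOf g := orderOf_map_dvd (QuotientGroup.mk' K) g
    refine (QuotientGroup.eq_one_iff g).1 (orderOf_eq_one_iff.1 (Nat.Coprime.eq_one_of_dvd
      (((hp.out.coprime_iff_not_dvd.2 hg).pow_left n).coprime_dvd_left (orderOf_dvd_of_pow_eq_one h1)) h2))
  constructor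
  · haveI := d.normal₂
    haveI : (Subgroup.centralizer (N₂ : Set Y)).Normal := Subgroup.normal_centralizer
    have := pquot (Subgroup.centralizer (N₂ : Set Y)) fun x hx => (d.cent₂ A hA hx a ha).symm
    intro x hx
    rw [← this x hx]; group
  · haveI := d.rep.normal
    haveI := meet_normal (Y := Y) (p := p)
    let K : Subgroup Y :=
      { carrier := {y | ∀ e ∈ meet p (pCore p Y), y * e * y⁻¹ * e⁻¹ ∈ N₁}
        one_mem' := fun e _ => by simp
        mul_mem' := fun {x y} hx hy e he => by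
          have h3 := mul_mem ((inferInstance : N₁.Normal).conj_mem _ (hy e he) x) (hx e he)
          rwa [show x * (y * e * y⁻¹ * e⁻¹) * x⁻¹ * (x * e * x⁻¹ * e⁻¹) = x * y * e * (x * y)⁻¹ * e⁻¹ by group] at h3
        inv_mem' := fun {x} hx e he => by
          have h3 := inv_mem ((inferInstance : N₁.Normal).conj_mem _ (hx e he) x⁻¹)
          rwa [show (x⁻¹ * (x * e * x⁻¹ * e⁻¹) * x⁻¹⁻¹)⁻¹ = x⁻¹ * e * x⁻¹⁻¹ * e⁻¹ by group] at h3 }
    haveI : K.Normal := ⟨fun y hy t e he => by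
      have h3 := (inferInstance : N₁.Normal).conj_mem _
        (hy (t⁻¹ * e * t) (by simpa using (meet_normal (Y := Y) (p := p)).conj_mem e he t⁻¹)) t
      rwa [show t * (y * (t⁻¹ * e * t) * y⁻¹ * (t⁻¹ * e * t)⁻¹) * t⁻¹ =
        t * y * t⁻¹ * e * (t * y * t⁻¹)⁻¹ * e⁻¹ by group] at h3⟩
    refine pquot K fun e he => ?_
    have h1 := d.split A hA he
    rw [← SetLike.mem_coe, Subgroup.normal_mul] at h1
    obtain ⟨v, hv, c, hc, rfl⟩ := h1
    have e1 : a * c = c * a := hc.2 a ha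
    rw [show a * (v * c) * a⁻¹ * (v * c)⁻¹ = a * v * (a⁻¹ * (a * c)) * a⁻¹ * c⁻¹ * v⁻¹ by group, e1,
      show a * v * (a⁻¹ * (c * a)) * a⁻¹ * c⁻¹ * v⁻¹ = a * v * a⁻¹ * v⁻¹ by group]
    exact mul_mem (d.rep.normal.conj_mem v hv a) (inv_mem hv)

end Data

end CfsgLib.TransferRoot
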