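import Cfsg.Agent.Lib.TransferRoot.Move
import Cfsg.Agent.Lib.SLCard

/-!
Inside the preimage of a component: a minimal subgroup over `B(S)` outside `M` has `B(S)` as a Sylow subgroup.
-/

set_option autoImplicit false
set_option linter.unusedSectionVars false
set_option linter.style.haveILetI false

namespace CfsgLib.TransferRoot

open Cfsg CfsgLib CfsgLib.StrongFusion CfsgLib.ZJ CfsgLib.KInf CfsgLib.RootCommute CfsgLib.WeakClosed
open CfsgLib.SL2Pair (fix)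

universe u

variable {Y : Type u} [Group Y] [Finite Y] {p : ℕ} [hp : Fact p.Prime] {S : Sylow p Y} {M : Subgroup Y}
  {U : Type} [AddCommGroup U] [Finite U] {ρ : Y →* AddMonoid.End U} {π : Y → U}
  {X : Subgroup (Y ⧸ ρ.ker)} {N₁ N₂ : Subgroup Y}
  {L : Subgroup (Y ⧸ ρ.ker)} {F : Type} [Field F] [Fintype F] {φ : L →* Matrix.SpecialLinearGroup (Fin 2) F}

/-- A minimal subgroup over `B(S)` outside `M` in the preimage of a component. -/
structure Push (S : Sylow p Y) (M : Subgroup Y) (ρ : Y →* AddMonoid.End U) (X L : Subgroup (Y ⧸ ρ.ker))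
    (φ : L →* Matrix.SpecialLinearGroup (Fin 2) F) (Lp : Subgroup Y) : Prop where
  comp : Component (bar ρ) (sylowBar ρ S) (M.map (QuotientGroup.mk' ρ.ker)) X L F φ
  image : (((bau p (S : Subgroup Y)).map (QuotientGroup.mk' ρ.ker)).subgroupOf L).map φ = (X.subgroupOf L).map φ
  le_comap : Lp ≤ L.comap (QuotientGroup.mk' ρ.ker)
  bau_le : bau p (S : Subgroup Y) ≤ Lp
  not_le : ¬ Lp ≤ M
  min : ∀ H : Subgroup Y, bau p (S : Subgroup Y) ≤ H → H ≤ Lp → ¬ H ≤ M → H = Lp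

theorem Data.exists_push (d : Data S M ρ π X N₁ N₂) :
    ∃ (L : Subgroup (Y ⧸ ρ.ker)) (F : Type) (_ : Field F) (_ : Fintype F)
      (φ : L →* Matrix.SpecialLinearGroup (Fin 2) F) (Lp : Subgroup Y), Push S M ρ X L φ Lp := by
  classical
  obtain ⟨A, hA, -, hoff⟩ := d.outside
  obtain ⟨L, F, _, _, φ, hc, himg⟩ := d.root.exists_component _ (d.image_le A hA) hoff
  set mk := QuotientGroup.mk' ρ.ker
  have hcomap : (M.map mk).comap mk = M := by
    rw [Subgroup.comap_map_eq, QuotientGroup.ker_mk', sup_eq_left.2 d.ker_le]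
  have h1 : bau p (S : Subgroup Y) ≤ L.comap mk ∧ ¬ L.comap mk ≤ M :=
    ⟨Subgroup.map_le_iff_le_comap.1 (d.bau_image_le.trans hc.le), fun hle => hc.not_le (by
      rw [← Subgroup.map_comap_eq_self_of_surjective (QuotientGroup.mk'_surjective ρ.ker) L]
      exact Subgroup.map_mono hle)⟩
  obtain ⟨Lp, hLp⟩ := (Set.toFinite {H : Subgroup Y | bau p (S : Subgroup Y) ≤ H ∧ H ≤ L.comap mk ∧ ¬ H ≤ M})
    |>.exists_minimal ⟨L.comap mk, h1.1, le_rfl, h1.2⟩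
  refine ⟨L, F, inferInstance, inferInstance, φ, Lp, hc, ?_, hLp.prop.2.1, hLp.prop.1, hLp.prop.2.2,
    fun H hB hH hM => le_antisymm hH (hLp.2 ⟨hB, hH.trans hLp.prop.2.1, hM⟩ hH)⟩
  refine le_antisymm (Subgroup.map_mono (Subgroup.comap_mono d.bau_image_le)) (himg.ge.trans (Subgroup.map_mono
    (Subgroup.comap_mono (Subgroup.map_mono ?_))))
  exact (le_sSup hA).trans (thompsonJ_le_bau _)

namespace Push

variable {Lp : Subgroup Y}

/-- The image in `L`. -/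
def toL (h : Push S M ρ X L φ Lp) : Lp →* L :=
  ((QuotientGroup.mk' ρ.ker).comp Lp.subtype).codRestrict L fun l => h.le_comap l.2

/-- The map to `SL₂`. -/
def psi (h : Push S M ρ X L φ Lp) : Lp →* Matrix.SpecialLinearGroup (Fin 2) F := φ.comp h.toL

theorem psi_apply (h : Push S M ρ X L φ Lp) (l : Lp) :
    h.psi l = φ ⟨QuotientGroup.mk' ρ.ker (l : Y), h.le_comap l.2⟩ := rfl

theorem card_F (h : Push S M ρ X L φ Lp) : ¬ p ∣ Fintype.card F ^ 2 - 1 ∧ (p : F) = 0 ∧ 1 < Fintype.card F := by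
  obtain ⟨n, hn, hq⟩ := h.comp.card
  have hp2 := hp.out.two_le
  refine ⟨?_, ?_, Fintype.one_lt_card⟩
  · intro hd
    have h2 : p ∣ Fintype.card F ^ 2 := by rw [hq, ← pow_mul]; exact dvd_pow_self p (by omega)
    have h3 := Nat.dvd_sub h2 hd
    rw [Nat.sub_sub_self (Nat.one_le_pow _ _ Fintype.card_pos)] at h3
    exact hp.out.not_dvd_one h3
  · have h1 : (Fintype.card F : F) = 0 := Nat.cast_card_eq_zero F
    rw [hq, Nat.cast_pow] at h1
    exact eq_zero_of_pow_eq_zero h1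

theorem imageX_mul (h : Push S M ρ X L φ Lp) :
    Nat.card ((X.subgroupOf L).map φ) * (Fintype.card F ^ 2 - 1) =
      Nat.card (Matrix.SpecialLinearGroup (Fin 2) F) := by
  rw [h.comp.card_image, SLCard.card_SL_two]

theorem not_dvd_index (h : Push S M ρ X L φ Lp) : ¬ p ∣ ((X.subgroupOf L).map φ).index := by
  have h1 := Subgroup.card_mul_index ((X.subgroupOf L).map φ)
  rw [← h.imageX_mul] at h1
  rw [Nat.eq_of_mul_eq_mul_left Nat.card_pos h1]
  exact h.card_F.1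

theorem imageX_ne_top (h : Push S M ρ X L φ Lp) : (X.subgroupOf L).map φ ≠ ⊤ := by
  intro e
  have h1 := Subgroup.card_mul_index ((X.subgroupOf L).map φ)
  rw [← h.imageX_mul] at h1
  have h2 := Nat.eq_of_mul_eq_mul_left Nat.card_pos h1
  have h3 : ((X.subgroupOf L).map φ).index = 1 := by rw [e, Subgroup.index_top]
  have h4 := h.card_F.2.2
  have : 4 ≤ Fintype.card F ^ 2 := by nlinarith
  omega

theorem ker_le_M (h : Push S M ρ X L φ Lp) (hM : ρ.ker ≤ M) {y : Y} (hy : QuotientGroup.mk' ρ.ker y ∈ L)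
    (hφ : φ ⟨_, hy⟩ = 1) : y ∈ M := by
  set mk := QuotientGroup.mk' ρ.ker
  have hcomap : (M.map mk).comap mk = M := by
    rw [Subgroup.comap_map_eq, QuotientGroup.ker_mk', sup_eq_left.2 hM]
  by_contra hyM
  have hy' : mk y ∉ M.map mk := fun e => hyM (hcomap.le e)
  have e := h.comp.gen _ hy hy'
  have hcm : cm (mk y) X ≤ L := le_sup_right.trans e.le
  refine h.imageX_ne_top (top_le_iff.1 fun s _ => ?_)
  obtain ⟨l, rfl⟩ := h.comp.surj s
  suffices key : X ⊔ cm (mk y) X ≤ (((X.subgroupOf L).map φ).comap φ).map L.subtype by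
    obtain ⟨l', hl', e'⟩ := key (e.ge l.2)
    rw [← Subtype.ext e' (a1 := l') (a2 := l)]
    exact hl'
  refine sup_le (fun x hx => ⟨⟨x, h.comp.le hx⟩, ⟨_, (Subgroup.mem_subgroupOf (h := _)).2 hx, rfl⟩, rfl⟩) ?_
  rintro _ ⟨x, hx, rfl⟩
  refine ⟨⟨mk y * x * (mk y)⁻¹, hcm (conj_mem_cm hx)⟩, ?_, rfl⟩
  show φ _ ∈ (X.subgroupOf L).map φ
  rw [show (⟨mk y * x * (mk y)⁻¹, hcm (conj_mem_cm hx)⟩ : L) =
    ⟨mk y, hy⟩ * ⟨x, h.comp.le hx⟩ * ⟨mk y, hy⟩⁻¹ from rfl, map_mul, map_mul, map_inv, hφ, one_mul, inv_one, mul_one]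
  exact ⟨_, (Subgroup.mem_subgroupOf (h := _)).2 hx, rfl⟩

theorem conj_gen (h : Push S M ρ X L φ Lp) (hc : Ctx S M) {x : Y} (hx : x ∈ Lp) (hxM : x ∉ M) :
    bau p (S : Subgroup Y) ⊔ cm x (bau p (S : Subgroup Y)) = Lp := by
  refine h.min _ le_sup_left (sup_le h.bau_le ?_) fun hle => hxM ?_
  · rintro _ ⟨b, hb, rfl⟩
    exact Lp.mul_mem (Lp.mul_mem hx (h.bau_le hb)) (Lp.inv_mem hx)
  · exact hc.mem_of_conj_le ((cm_mono (thompsonJ_le_bau _)).trans (le_sup_right.trans hle))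

theorem psi_surjective (h : Push S M ρ X L φ Lp) (d : Data S M ρ π X N₁ N₂) : Function.Surjective h.psi := by
  obtain ⟨x, hx, hxM⟩ := SetLike.not_le_iff_exists.1 h.not_le
  set mk := QuotientGroup.mk' ρ.ker
  have hxM' : mk x ∉ M.map mk := by
    rintro ⟨m, hm, e⟩
    exact hxM (by
      have := M.mul_mem hm (d.ker_le (QuotientGroup.eq.1 e : m⁻¹ * x ∈ ρ.ker))
      rwa [mul_inv_cancel_left] at this)
  have e := h.comp.gen _ (h.le_comap hx) hxM'
  set R := h.psi.range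
  have hB : (X.subgroupOf L).map φ ≤ R := by
    rw [← h.image]
    rintro _ ⟨⟨y, hy⟩, hy', rfl⟩
    obtain ⟨b, hb, rfl⟩ := hy'
    exact ⟨⟨b, h.bau_le hb⟩, rfl⟩
  intro s
  obtain ⟨l, rfl⟩ := h.comp.surj s
  suffices key : X ⊔ cm (mk x) X ≤ (R.comap φ).map L.subtype by
    obtain ⟨l', hl', e'⟩ := key (e.ge l.2)
    rw [← Subtype.ext e' (a1 := l') (a2 := l)]
    exact hl'
  refine sup_le (fun y hy => ⟨⟨y, h.comp.le hy⟩, hB ⟨_, (Subgroup.mem_subgroupOf (h := _)).2 hy, rfl⟩, rfl⟩) ?_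
  rintro _ ⟨y, hy, rfl⟩
  refine ⟨⟨mk x, h.le_comap hx⟩ * ⟨y, h.comp.le hy⟩ * ⟨mk x, h.le_comap hx⟩⁻¹, ?_, rfl⟩
  show φ _ ∈ R
  rw [map_mul, map_mul, map_inv]
  exact R.mul_mem (R.mul_mem ⟨⟨x, hx⟩, rfl⟩ (hB ⟨_, (Subgroup.mem_subgroupOf (h := _)).2 hy, rfl⟩))
    (R.inv_mem ⟨⟨x, hx⟩, rfl⟩)

theorem mem_M_of_psi (h : Push S M ρ X L φ Lp) (d : Data S M ρ π X N₁ N₂) {l : Lp} (hl : h.psi l = 1) :
    (l : Y) ∈ M := h.ker_le_M d.ker_le (h.le_comap l.2) hl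

theorem mem_ker_of_psi (h : Push S M ρ X L φ Lp) {l : Lp} (hl : h.psi l = 1) (hl' : ¬ p ∣ orderOf l) :
    (l : Y) ∈ ρ.ker := by
  obtain ⟨k, hk⟩ := h.comp.ker ⟨h.toL l, hl⟩
  have h1 : orderOf (h.toL l) ∣ orderOf l := orderOf_map_dvd h.toL l
  have h2 : h.toL l = 1 := orderOf_eq_one_iff.1 (Nat.Coprime.eq_one_of_dvd
    (((hp.out.coprime_iff_not_dvd.2 hl').pow_left k).coprime_dvd_left
      (orderOf_dvd_of_pow_eq_one (congrArg Subtype.val hk))) h1)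
  exact (QuotientGroup.eq_one_iff _).1 (congrArg Subtype.val h2)

theorem exists_pow_centralizes (h : Push S M ρ X L φ Lp) (d : Data S M ρ π X N₁ N₂) {l : Lp} (hl : h.psi l = 1) :
    ∃ n : ℕ, Odd n ∧
      ((l : Y) ^ n) ∈ Subgroup.centralizer (meet p (pCore p Y) : Set Y) ⊓ Subgroup.centralizer (zc p Y : Set Y) := by
  obtain ⟨k, t, ht, hkt⟩ := Nat.exists_eq_pow_mul_and_not_dvd (orderOf_pos l).ne' p hp.out.ne_one
  refine ⟨p ^ k, (hp.out.odd_of_ne_two d.ctx.odd).pow, ?_⟩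
  have hord : ¬ p ∣ orderOf (l ^ p ^ k) := fun hd => ht (hd.trans (orderOf_dvd_of_pow_eq_one (by
    rw [← pow_mul, ← hkt, pow_orderOf_eq_one])))
  have hker := h.mem_ker_of_psi (l := l ^ p ^ k) (by rw [map_pow, hl, one_pow]) hord
  have hfix : ∀ e ∈ meet p (pCore p Y), ((l ^ p ^ k : Lp) : Y) * e * ((l ^ p ^ k : Lp) : Y)⁻¹ = e := fun e he =>
    d.fix_meet (by rwa [Subgroup.orderOf_coe]) hker he
  rw [← SubgroupClass.coe_pow]
  exact ⟨fun e he => (mul_inv_eq_iff_eq_mul.1 (hfix e he)).symm, fun e he => (mul_inv_eq_iff_eq_mul.1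
    (fix_zc (by rwa [Subgroup.orderOf_coe]) (fun x hx => hfix x (cent_le_meet _ hx)) e he)).symm⟩

end Push

end CfsgLib.TransferRoot
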