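import Cfsg.Agent.Lib.TransferControl.Degree

/-!
The trace argument with an element of degree `p - 1` for each chief factor separately.
-/

set_option autoImplicit false
set_option linter.unusedSectionVars false
set_option linter.style.haveILetI false

namespace CfsgLib.TransferRoot

open CfsgLib Cfsg CfsgLib.StrongFusion CfsgLib.KInf CfsgLib.WeakClosed CfsgLib.TransferControl
open scoped Pointwise commutatorElement IsMulCommutative

variable {G : Type*} [Group G] [Finite G] {p : ℕ} [hp : Fact p.Prime]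

/-- The trace argument with an element of degree `p - 1` for each chief factor separately. -/
theorem fix_of_degree_each (S : Sylow p G) {Q T : Subgroup G} [hQn : Q.Normal] (hQS : Q ≤ (S : Subgroup G))
    (hTS : T ≤ (S : Subgroup G)) (hd : ⁅(S : Subgroup G), (S : Subgroup G)⁆ ≤ T)
    (hproper : ∀ H : Subgroup G, (S : Subgroup G) ≤ H → H ≠ ⊤ → ∀ h ∈ H, ∀ q ∈ Q, ⁅h, q⁆ ∈ T)
    (hgood : ∀ U V : Subgroup G, IsChiefFactor U V → U ≤ Q →
      ∃ g ∈ (S : Subgroup G), g ∉ pCore p G ∧ ∀ u ∈ U, dl g (p - 1) u ∈ V) :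
    ∀ x : G, ∀ q ∈ Q, ⁅x, q⁆ ∈ T := by
  classical
  set P : Subgroup G := (S : Subgroup G)
  have hn : ∀ q ∈ Q, ∀ x : G, x * q * x⁻¹ ∈ Q := fun q hq x => hQn.conj_mem q hq x
  have hc : ∀ x : G, (∀ q ∈ Q, ⁅x, q⁆ ∈ T) → ∀ t ∈ T, t ∈ Q → x * t * x⁻¹ ∈ T := fun x hx t ht htQ => by
    rw [show x * t * x⁻¹ = ⁅x, t⁆ * t by simp only [commutatorElement_def]; group]
    exact mul_mem (hx t htQ) ht
  set M := fixer Q T hn hc
  have hPM : P ≤ M := fun s hs q hq => hd (Subgroup.commutator_mem_commutator hs (hQS hq))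
  -- the abelian quotient
  haveI hTn : (T.subgroupOf P).Normal := (Subgroup.normal_subgroupOf_iff hTS).2
    fun t s ht hs => conj_mem_of_derived_le hTS hd hs ht
  haveI : IsMulCommutative (P ⧸ T.subgroupOf P) := Subgroup.Normal.quotient_commutative_iff_commutator_le.2 (by
    rw [← Subgroup.map_le_map_iff_of_injective P.subtype_injective, Subgroup.map_subgroupOf_eq_of_le hTS,
      Subgroup.map_subtype_commutator]
    exact hd)
  let ch : G → P ⧸ T.subgroupOf P := fun y => if h : y ∈ P then QuotientGroup.mk ⟨y, h⟩ else 1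
  have hch : ∀ y (h : y ∈ P), ch y = QuotientGroup.mk ⟨y, h⟩ := fun y h => dif_pos h
  have hch_mul : ∀ y ∈ P, ∀ z ∈ P, ch (y * z) = ch y * ch z := fun y hy z hz => by
    rw [hch y hy, hch z hz, hch _ (mul_mem hy hz)]; rfl
  have hch1 : ∀ y ∈ P, (ch y = 1 ↔ y ∈ T) := fun y hy => by
    rw [hch y hy, QuotientGroup.eq_one_iff, Subgroup.mem_subgroupOf]
  have hfix : ∀ x, ∀ q ∈ Q, (ch (x * q * x⁻¹) = ch q ↔ ⁅x, q⁆ ∈ T) := fun x q hq => by
    have h1 : ⁅x, q⁆ ∈ P := hQS (by rw [commutatorElement_def]; exact mul_mem (hn q hq x) (inv_mem hq))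
    rw [show x * q * x⁻¹ = ⁅x, q⁆ * q by simp only [commutatorElement_def]; group, hch_mul _ h1 _ (hQS hq),
      mul_eq_right, hch1 _ h1]
  let th : G ⧸ M → G → P ⧸ T.subgroupOf P := fun c q => ch (c.out⁻¹ * q * c.out)
  have hth : ∀ (x : G), ∀ q ∈ Q, th (QuotientGroup.mk x) q = ch (x⁻¹ * q * x) := by
    intro x q hq
    obtain ⟨m, hm⟩ := QuotientGroup.mk_out_eq_mul M x
    show ch (_ * q * _) = _
    rw [hm, show (x * (m : G))⁻¹ * q * (x * m) = (m : G)⁻¹ * (x⁻¹ * q * x) * (m : G)⁻¹⁻¹ by group]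
    exact (hfix _ _ (by simpa using hn q hq x⁻¹)).2 (inv_mem m.2 _ (by simpa using hn q hq x⁻¹))
  have hth_mul : ∀ c, ∀ q ∈ Q, ∀ r ∈ Q, th c (q * r) = th c q * th c r := by
    intro c q hq r hr
    show ch _ = ch _ * ch _
    rw [← hch_mul _ (hQS (by simpa using hn q hq c.out⁻¹)) _ (hQS (by simpa using hn r hr c.out⁻¹))]
    congr 1; group
  have hth_smul : ∀ (x : G) (c : G ⧸ M), ∀ q ∈ Q, th (x • c) q = th c (x⁻¹ * q * x) := by
    intro x c q hq
    conv_lhs => rw [← c.out_eq]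
    show th (QuotientGroup.mk (x * c.out)) q = ch _
    rw [hth _ q hq]
    congr 1; group
  set base : G ⧸ M := QuotientGroup.mk 1
  have hbase : ∀ q ∈ Q, th base q = ch q := fun q hq => by rw [hth 1 q hq]; simp
  suffices main : ∀ k, ∀ W : Subgroup G, W.Normal → W ≤ Q → Nat.card W = k → ∀ c, ∀ q ∈ W, th c q = ch q by
    intro x q hq
    refine (hfix x q hq).1 ?_
    have h := main _ Q hQn le_rfl rfl (QuotientGroup.mk x⁻¹) q hq
    rw [hth _ q hq, inv_inv] at h
    exact h
  intro k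
  induction k using Nat.strong_induction_on with
  | h k ih =>
  intro W hWn hWQ hWk
  haveI := hWn
  by_cases hW0 : W = ⊥
  · subst hW0
    intro c q hq
    rw [Subgroup.mem_bot.1 hq]
    show ch (c.out⁻¹ * 1 * c.out) = ch 1
    simp
  obtain ⟨V, -, hWV⟩ := exists_chief_between (U := W) (W := ⊥) (bot_lt_iff_ne_bot.2 hW0)
  haveI := hWV.2.2.1
  have hVlt : Nat.card V < k := hWk ▸ lt_of_le_of_ne (Subgroup.card_le_of_le hWV.1.le)
    fun e => hWV.1.ne (Subgroup.eq_of_le_of_card_ge hWV.1.le e.ge)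
  have hV : ∀ c, ∀ q ∈ V, th c q = ch q := ih _ hVlt V hWV.2.2.1 (hWV.1.le.trans hWQ) rfl
  set π := QuotientGroup.mk' V
  haveI hWb : (W.map π).Normal := Subgroup.Normal.map inferInstance π (QuotientGroup.mk'_surjective V)
  have hWp : IsPGroup p W := S.2.to_le (hWQ.trans hQS)
  have hWbc := commutator_le_of_abelian (commutator_le_of_chief hWp hWV le_rfl)
  haveI : IsMulCommutative (W.map π) := ⟨⟨fun a b => Subtype.ext (hWbc a a.2 b b.2)⟩⟩
  have hexp : ∀ q ∈ W.map π, q ^ p = 1 := by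
    rintro _ ⟨q, hq, rfl⟩
    rw [← map_pow]
    exact (QuotientGroup.eq_one_iff _).2 (pow_mem_of_chief hWV hWp hq)
  -- the subgroup generated by the elements of degree `p - 1`
  obtain ⟨g, hg, hgQ, hgood'⟩ := hgood W V hWV hWQ
  set E : Set G := {s | s ∈ P ∧ ∀ u ∈ W, dl s (p - 1) u ∈ V}
  set X := Subgroup.closure E
  have hXP : X ≤ P := (Subgroup.closure_le _).2 fun s hs => hs.1
  have hcl : ∀ m : G, cm m X ≤ P → cm m X = X := fun m hm => by
    refine Subgroup.eq_of_le_of_card_ge (Subgroup.map_le_iff_le_comap.2 ((Subgroup.closure_le _).2 fun s hs => ?_))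
      (card_cm m X).ge
    exact Subgroup.subset_closure ⟨hm (conj_mem_cm (Subgroup.subset_closure hs)), fun u hu => by
        have hu' : m⁻¹ * u * m ∈ W := by simpa using hWn.conj_mem u hu m⁻¹
        rw [show u = m * (m⁻¹ * u * m) * m⁻¹ by group]
        show dl (m * s * m⁻¹) _ _ ∈ V
        rw [dl_conj]
        exact hWV.2.2.1.conj_mem _ (hs.2 _ hu') m⟩
  set K := Subgroup.normalizer (X : Set G)
  have hPK : P ≤ K := fun t ht => Local.mem_normalizer_of_map_conj_eq (hcl t
    (Local.map_conj_le fun s hs => mul_mem (mul_mem ht (hXP hs)) (inv_mem ht)))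
  have hKM : K ≤ M := fun k hk => hproper K hPK (fun e => hgQ (le_pCore (hN := Subgroup.normalizer_eq_top_iff.1 e)
    (S.2.to_le hXP) (Subgroup.subset_closure ⟨hg, hgood'⟩))) k hk
  have hfixed : ∀ c : G ⧸ M, (∀ t ∈ X, t • c = c) → c = base := by
    intro c hcX
    obtain ⟨t, rfl⟩ := QuotientGroup.mk_surjective c
    have hle : cm t⁻¹ X ≤ M := by
      rintro _ ⟨s, hs, rfl⟩
      have h := QuotientGroup.eq.1 (hcX s hs).symm
      simp only [smul_eq_mul] at h
      show t⁻¹ * s * t⁻¹⁻¹ ∈ M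
      rwa [show t⁻¹ * s * t⁻¹⁻¹ = t⁻¹ * (s * t) by group]
    obtain ⟨m, hm, hmP⟩ := exists_conj_le (Q := P) hPM S.2
      (fun hd => S.not_dvd_index (hd.trans (Subgroup.relIndex_dvd_index_of_le hPM))) hle ((S.2.to_le hXP).map _)
    rw [cm_cm] at hmP
    have h1 : m * t⁻¹ ∈ M := hKM (Local.mem_normalizer_of_map_conj_eq (hcl _ hmP))
    have h2 := mul_mem (inv_mem hm) h1
    rw [inv_mul_cancel_left] at h2
    exact QuotientGroup.eq.2 (by simpa using h2)
  -- a full set of translates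
  have hstep : ∀ a ∈ E, ∀ (c : G ⧸ M), ∀ q ∈ W, (∏ i ∈ Finset.range p, th ((a⁻¹) ^ i • c) q) = ch q ^ p := by
    intro a haE c q hq
    have hagree : ∀ n : ℕ, ∃ y ∈ W, π y = ((∏ i ∈ Finset.range n, (⟨π a ^ i * π q * (π a ^ i)⁻¹,
        hWb.conj_mem _ (Subgroup.mem_map_of_mem π hq) _⟩ : W.map π) : W.map π) : G ⧸ V) ∧
        ∀ d, th d y = ∏ i ∈ Finset.range n, th d (a ^ i * q * (a ^ i)⁻¹) := by
      intro n
      induction n with
      | zero =>
        exact ⟨1, one_mem _, by simp, fun d => by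
          show ch (d.out⁻¹ * 1 * d.out) = _
          rw [Finset.prod_range_zero, mul_one, inv_mul_cancel, hch1 _ (one_mem _)]
          exact one_mem _⟩
      | succ n ihn =>
        obtain ⟨y, hy, hy1, hy2⟩ := ihn
        refine ⟨y * (a ^ n * q * (a ^ n)⁻¹), mul_mem hy (hWn.conj_mem q hq _), ?_, fun d => ?_⟩
        · rw [Finset.prod_range_succ, Subgroup.coe_mul, ← hy1, map_mul, map_mul, map_mul, map_inv, map_pow]
        · rw [Finset.prod_range_succ, hth_mul d _ (hWQ hy) _ (hWQ (hWn.conj_mem q hq _)), hy2]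
    obtain ⟨y, hy, hy1, hy2⟩ := hagree p
    have hyV : y ∈ V := by
      refine (QuotientGroup.eq_one_iff y).1 (hy1.trans ?_)
      exact congrArg Subtype.val (prod_conj_eq_one hexp (Subgroup.mem_map_of_mem π hq) (by
        rintro _ ⟨w, hw, rfl⟩
        rw [← map_dl]
        exact (QuotientGroup.eq_one_iff _).2 (haE.2 w hw)))
    have e1 : ∀ i : ℕ, th ((a⁻¹) ^ i • c) q = th c (a ^ i * q * (a ^ i)⁻¹) := fun i => by
      rw [hth_smul _ c q (hWQ hq)]
      congr 1
      rw [inv_pow, inv_inv]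
    rw [Finset.prod_congr rfl fun i _ => e1 i, ← hy2 c, hV c y hyV, ← hV base y hyV, hy2 base]
    conv_rhs => rw [← Finset.card_range p, ← Finset.prod_const]
    refine Finset.prod_congr rfl fun i _ => ?_
    rw [hbase _ (hn q (hWQ hq) _)]
    exact (hfix _ q (hWQ hq)).2 (pow_mem (hPM haE.1) i q (hWQ hq))
  -- invariant sets without the base point
  have hzero : ∀ q ∈ W, ∀ s : Finset (G ⧸ M), (∀ t ∈ X, ∀ v ∈ s, t • v ∈ s) → base ∉ s →
      (∏ v ∈ s, th v q) = ch q ^ s.card := by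
    intro q hq s
    induction s using Finset.strongInduction with
    | H s ihs =>
    intro hs hb
    rcases s.eq_empty_or_nonempty with rfl | ⟨w, hw⟩
    · simp
    have hsub := orb_subset hw hs
    rw [← Finset.prod_sdiff hsub, ← Finset.card_sdiff_add_card_eq_card hsub, pow_add,
      ihs _ (Finset.sdiff_ssubset hsub ⟨w, self_mem_orb X w⟩) (fun t ht v hv => stable_sdiff hs ht hv)
        (fun h => hb (Finset.mem_sdiff.1 h).1)]
    congr 1
    have hmove : ∃ t ∈ X, t • w ≠ w := by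
      by_contra hcn
      push Not at hcn
      exact hb (hfixed w hcn ▸ hw)
    obtain ⟨M', hM'X, hst, hM'n, hM'i⟩ := exists_step (S.2.to_le hXP) hmove
    haveI := hM'n
    obtain ⟨a, haE, haM⟩ : ∃ a ∈ E, a ∉ M' := by
      by_contra hcn
      push Not at hcn
      have h1 : M'.subgroupOf X = ⊤ := Subgroup.subgroupOf_eq_top.2 ((Subgroup.closure_le _).2 hcn)
      rw [h1, Subgroup.index_top] at hM'i
      exact hp.out.one_lt.ne hM'i
    obtain ⟨hcard, hprod⟩ := prod_orb_step (w := w) hM'X hst hM'i (inv_mem (Subgroup.subset_closure haE))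
      (fun h => haM (inv_mem_iff.1 h))
    rw [hprod, hcard, Finset.prod_congr rfl fun v _ => hstep a haE v q hq, Finset.prod_const, ← pow_mul]
  haveI := Fintype.ofFinite (G ⧸ M)
  have hnorm : ∀ q ∈ W, (∏ c, th c q) = ch q ^ Fintype.card (G ⧸ M) := by
    intro q hq
    rw [← Finset.prod_erase_mul _ _ (Finset.mem_univ base), hbase q (hWQ hq),
      hzero q hq (Finset.univ.erase base) (fun t ht v hv => ?_) (Finset.notMem_erase _ _), ← pow_succ,
      Finset.card_erase_add_one (Finset.mem_univ base), Finset.card_univ]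
    rw [Finset.mem_erase] at hv ⊢
    refine ⟨fun e => hv.1 (MulAction.injective t (e.trans ?_)), Finset.mem_univ _⟩
    show base = QuotientGroup.mk (t * 1)
    exact QuotientGroup.eq.2 (by simpa using hPM (hXP ht))
  have hcop : ¬ p ∣ Fintype.card (G ⧸ M) := by
    rw [← Nat.card_eq_fintype_card, ← Subgroup.index_eq_card]
    exact fun hd => S.not_dvd_index (hd.trans (Subgroup.index_dvd_of_le hPM))
  intro c q hq
  have hq' : c.out⁻¹ * q * c.out ∈ W := by simpa using hWn.conj_mem q hq c.out⁻¹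
  have h1 := hnorm _ hq'
  rw [Fintype.prod_equiv (MulAction.toPerm c.out) (fun d => th d (c.out⁻¹ * q * c.out)) (fun d => th d q)
    fun d => (hth_smul c.out d q (hWQ hq)).symm, hnorm q hq] at h1
  obtain ⟨j, hj⟩ := (S.2.to_quotient (T.subgroupOf P)) (th c q / ch q)
  refine div_eq_one.1 (orderOf_eq_one_iff.1 (Nat.Coprime.eq_one_of_dvd
    (((hp.out.coprime_iff_not_dvd.2 hcop).pow_left j).coprime_dvd_left (orderOf_dvd_of_pow_eq_one hj))
    (orderOf_dvd_of_pow_eq_one ?_)))
  rw [div_pow]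
  exact div_eq_one.2 h1.symm

end CfsgLib.TransferRoot
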