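import Cfsg.Agent.Lib.TransferRoot.Lift

/-!
The two eigenspaces of the lift of `-1`, and `B(S)` as a Sylow subgroup.
-/

set_option autoImplicit false
set_option linter.unusedSectionVars false
set_option linter.style.haveILetI false

namespace CfsgLib.TransferRoot

open Cfsg CfsgLib CfsgLib.StrongFusion CfsgLib.ZJ CfsgLib.KInf CfsgLib.RootCommute CfsgLib.WeakClosed
open CfsgLib.SL2Pair (fix)

universe u

variable {Y : Type u} [Group Y] [Finite Y] {p : ℕ} [hp : Fact p.Prime] {S : Sylow p Y} {M : Subgroup Y}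
  {U : Type} [AddCommGroup U] [Finite U] {ρ : Y →* AddMonoid.End U} {π : Y → U}
  {X : Subgroup (Y ⧸ ρ.ker)} {N₁ N₂ : Subgroup Y}
  {L : Subgroup (Y ⧸ ρ.ker)} {F : Type} [Field F] [Fintype F] {φ : L →* Matrix.SpecialLinearGroup (Fin 2) F}
  {Lp : Subgroup Y}

theorem eq_one_of_sq {x : Y} (hp2 : p ≠ 2) (h2 : x * x = 1) (hxp : x ^ p = 1) : x = 1 := by
  have h : orderOf x ∣ Nat.gcd 2 p :=
    Nat.dvd_gcd (orderOf_dvd_of_pow_eq_one (by rw [pow_two, h2])) (orderOf_dvd_of_pow_eq_one hxp)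
  rw [(Nat.coprime_primes Nat.prime_two hp.out).2 (Ne.symm hp2)] at h
  exact orderOf_eq_one_iff.1 (Nat.dvd_one.1 h)

theorem exists_parts (hp2 : p ≠ 2) {K : Subgroup Y} (hK : IsGood p K) {z : Y}
    (hzK : ∀ x ∈ K, z * x * z⁻¹ ∈ K) (hz2 : ∀ x ∈ K, z * (z * x * z⁻¹) * z⁻¹ = x) {e : Y} (he : e ∈ K) :
    ∃ a ∈ K, ∃ b ∈ K, e = a * b ∧ z * a * z⁻¹ = a ∧ z * b * z⁻¹ = b⁻¹ := by
  obtain ⟨i, hi⟩ := hp.out.odd_of_ne_two hp2
  set f := z * e * z⁻¹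
  have hf : f ∈ K := hzK e he
  have hff : z * f * z⁻¹ = e := hz2 e he
  have c : Commute e f := hK.1 e he f hf
  refine ⟨(e * f) ^ (i + 1), pow_mem (mul_mem he hf) _, (e * f⁻¹) ^ (i + 1), pow_mem (mul_mem he (inv_mem hf)) _,
    ?_, ?_, ?_⟩
  · have c' : Commute (e * f) (e * f⁻¹) := hK.1 _ (mul_mem he hf) _ (mul_mem he (inv_mem hf))
    rw [← c'.mul_pow, show e * f * (e * f⁻¹) = e ^ 2 by
      rw [show e * f * (e * f⁻¹) = e * (f * e) * f⁻¹ by group, ← c.eq, pow_two]; group,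
      ← pow_mul, show 2 * (i + 1) = p + 1 by omega, pow_succ, hK.2 e he, one_mul]
  · rw [← conj_pow, show z * (e * f) * z⁻¹ = f * (z * f * z⁻¹) by simp only [f]; group, hff, c.eq]
  · rw [← conj_pow, show z * (e * f⁻¹) * z⁻¹ = f * (z * f * z⁻¹)⁻¹ by simp only [f]; group, hff, ← inv_pow,
      show (e * f⁻¹)⁻¹ = f * e⁻¹ by group]

variable {h : Push S M ρ X L φ Lp} {Q : Sylow p Lp} {z : Lp}

/-- Commutes with `z` on the meet and on the centre of `O_p`. -/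
def Comm (p : ℕ) (z l : Y) : Prop :=
  ∀ e : Y, e ∈ meet p (pCore p Y) ∨ e ∈ zc p Y → l * (z * e * z⁻¹) * l⁻¹ = z * (l * e * l⁻¹) * z⁻¹

theorem Comm.pow {z l : Y} (hl : Comm p z l) (n : ℕ) : Comm p z (l ^ n) := by
  induction n with
  | zero => intro e _; simp
  | succ n ih =>
    intro e he
    have h2 : l ^ n * e * (l ^ n)⁻¹ ∈ meet p (pCore p Y) ∨ l ^ n * e * (l ^ n)⁻¹ ∈ zc p Y :=
      he.imp (fun he => meet_normal.conj_mem e he _) fun he => zc_normal.conj_mem e he _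
    rw [show l ^ (n + 1) * (z * e * z⁻¹) * (l ^ (n + 1))⁻¹ = l * (l ^ n * (z * e * z⁻¹) * (l ^ n)⁻¹) * l⁻¹ by
      rw [pow_succ']; group, ih e he, hl _ h2]
    rw [pow_succ']; group

namespace Inv

theorem z_sq (hi : Inv h Q z) {e : Y} (he : e ∈ meet p (pCore p Y)) :
    (z : Y) * ((z : Y) * e * (z : Y)⁻¹) * (z : Y)⁻¹ = e := by
  rw [show (z : Y) * ((z : Y) * e * (z : Y)⁻¹) * (z : Y)⁻¹ = ((z : Y) * z) * e * ((z : Y) * z)⁻¹ by group]
  exact mul_inv_eq_iff_eq_mul.2 (hi.sqE e he).symm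

theorem z_order (hi : Inv h Q z) : ¬ p ∣ orderOf ((z : Y) * z) := fun hd =>
  hi.order (hd.trans (by rw [← pow_two]; exact orderOf_pow_dvd 2))

theorem sq_zc (hi : Inv h Q z) : (z : Y) * (z : Y) ∈ Subgroup.centralizer (zc p Y : Set Y) := fun e he =>
  (mul_inv_eq_iff_eq_mul.1 (fix_zc hi.z_order
    (fun x hx => mul_inv_eq_iff_eq_mul.2 (hi.sqE x (cent_le_meet _ hx)).symm) e he)).symm

theorem exists_lift (hi : Inv h Q z) (d : Data S M ρ π X N₁ N₂) (s : Matrix.SpecialLinearGroup (Fin 2) F) :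
    ∃ l : Lp, h.psi l = s ∧ Comm p (z : Y) l := by
  haveI : (meet p (pCore p Y)).Normal := meet_normal
  haveI : (zc p Y).Normal := zc_normal
  haveI : (Subgroup.centralizer (meet p (pCore p Y) : Set Y)).Normal := Subgroup.normal_centralizer
  haveI : (Subgroup.centralizer (zc p Y : Set Y)).Normal := Subgroup.normal_centralizer
  set C := Subgroup.centralizer (meet p (pCore p Y) : Set Y) ⊓ Subgroup.centralizer (zc p Y : Set Y)
  haveI : C.Normal := Subgroup.normal_inf_normal _ _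
  obtain ⟨l₀, rfl⟩ := h.psi_surjective d s
  set z₁ := l₀ * z * l₀⁻¹ with hz₁
  have hψ₁ : h.psi z₁ = -1 := by rw [hz₁, map_mul, map_mul, map_inv, hi.psi]; simp
  obtain ⟨n, hn, hnC⟩ := h.exists_pow_centralizes d (l := z₁ * z) (by rw [map_mul, hψ₁, hi.psi]; simp)
  obtain ⟨i, hi'⟩ := hn
  set c := (QuotientGroup.mk' C).comp Lp.subtype with hc
  set α := c z with hαdef
  set β := c z₁ with hβdef
  have hα : α * α = 1 := (QuotientGroup.eq_one_iff _).2 ⟨hi.sqE, hi.sq_zc⟩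
  have hβ : β * β = 1 := by
    rw [hβdef, ← map_mul, show z₁ * z₁ = l₀ * (z * z) * l₀⁻¹ by rw [hz₁]; group, map_mul, map_mul, map_mul,
      show c z * c z = 1 from hα, mul_one, ← map_mul, mul_inv_cancel, map_one]
  have hpow : (β * α) ^ n = 1 := by
    rw [hβdef, hαdef, ← map_mul, ← map_pow]
    exact (QuotientGroup.eq_one_iff _).2 (show (((z₁ * z) ^ n : Lp) : Y) ∈ C by
      rw [SubgroupClass.coe_pow]; exact hnC)
  have hsemi : ∀ j : ℕ, α * (α * β) ^ j = (β * α) ^ j * α := fun j => by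
    have : SemiconjBy α (α * β) (β * α) := by
      show α * (α * β) = β * α * α
      rw [← mul_assoc, hα, one_mul, mul_assoc, hα, mul_one]
    exact (this.pow_right j).eq
  have hinv : ((β * α) ^ (i + 1))⁻¹ = (α * β) ^ (i + 1) := by
    rw [← inv_pow, mul_inv_rev, inv_eq_of_mul_eq_one_right hα, inv_eq_of_mul_eq_one_right hβ]
  have hconj : (β * α) ^ (i + 1) * α * ((β * α) ^ (i + 1))⁻¹ = β := by
    rw [hinv, mul_assoc, hsemi, ← mul_assoc, ← pow_add, show i + 1 + (i + 1) = n + 1 by omega, pow_succ, hpow,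
      one_mul, mul_assoc, hα, mul_one]
  refine ⟨((z₁ * z) ^ (i + 1))⁻¹ * l₀, ?_, fun e he => ?_⟩
  · rw [map_mul, map_inv, map_pow, map_mul, hψ₁, hi.psi]
    simp
  set l : Lp := ((z₁ * z) ^ (i + 1))⁻¹ * l₀ with hl
  have hcomm : c (l * z) = c (z * l) := by
    have e1 : c l₀ * α * (c l₀)⁻¹ = β := by rw [hβdef, hαdef, hz₁, map_mul, map_mul, map_inv]
    have el : c l = ((β * α) ^ (i + 1))⁻¹ * c l₀ := by rw [hl, map_mul, map_inv, map_pow, map_mul]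
    rw [map_mul c l z, map_mul c z l, ← mul_inv_eq_iff_eq_mul]
    show c l * α * (c l)⁻¹ = α
    rw [el]
    calc ((β * α) ^ (i + 1))⁻¹ * c l₀ * α * (((β * α) ^ (i + 1))⁻¹ * c l₀)⁻¹
        = ((β * α) ^ (i + 1))⁻¹ * (c l₀ * α * (c l₀)⁻¹) * (β * α) ^ (i + 1) := by group
      _ = α := by rw [e1]; nth_rewrite 2 [← hconj]; group
  have hm : (((l : Y) * z)⁻¹ * ((z : Y) * l)) ∈ C := QuotientGroup.eq.1 (show
    QuotientGroup.mk' C ((l : Y) * z) = QuotientGroup.mk' C ((z : Y) * l) from hcomm)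
  have e2 : e * _ = _ * e := he.elim (fun he => hm.1 e he) fun he => hm.2 e he
  set m := ((l : Y) * z)⁻¹ * ((z : Y) * l) with hmdef
  have e3 : m * e * m⁻¹ = e := by rw [← e2]; group
  calc (l : Y) * ((z : Y) * e * (z : Y)⁻¹) * (l : Y)⁻¹
      = ((l : Y) * z) * e * ((l : Y) * z)⁻¹ := by group
    _ = ((l : Y) * z) * (m * e * m⁻¹) * ((l : Y) * z)⁻¹ := by rw [e3]
    _ = (z : Y) * ((l : Y) * e * (l : Y)⁻¹) * (z : Y)⁻¹ := by rw [hmdef]; group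

theorem rho_comm (_hi : Inv h Q z) (d : Data S M ρ π X N₁ N₂) {l : Lp} (hl : Comm p (z : Y) l) :
    h.toL l * h.toL z = h.toL z * h.toL l := by
  refine Subtype.ext (bar_injective ρ (AddMonoidHom.ext fun u => ?_))
  obtain ⟨v, hv, rfl⟩ := d.rep.surj u
  show ρ ((l : Y) * z) (π v) = ρ ((z : Y) * l) (π v)
  rw [d.rep.act _ v hv, d.rep.act _ v hv]
  congr 1
  calc (l : Y) * z * v * ((l : Y) * z)⁻¹ = l * ((z : Y) * v * (z : Y)⁻¹) * (l : Y)⁻¹ := by group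
    _ = _ := by rw [hl v (Or.inl (d.le_meet hv))]; group

theorem neg_mem (hi : Inv h Q z) (d : Data S M ρ π X N₁ N₂) {b : Y} (hb : b ∈ meet p (pCore p Y))
    (hz : (z : Y) * b * (z : Y)⁻¹ = b⁻¹) : b ∈ N₁ := by
  have h1 := (d.coprime_trivial hi.order).2 b hb
  rw [hz] at h1
  obtain ⟨i, hi'⟩ := hp.out.odd_of_ne_two d.ctx.odd
  have h2 := pow_mem (inv_mem h1) (i + 1)
  rwa [show (b⁻¹ * b⁻¹)⁻¹ = b ^ 2 by group, ← pow_mul, show 2 * (i + 1) = p + 1 by omega, pow_succ, meet_pow hb,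
    one_mul] at h2

/-- An element of the meet fixed by `z` is fixed by the coprime elements commuting with `z`. -/
theorem fix_coprime (hi : Inv h Q z) (d : Data S M ρ π X N₁ N₂) {e : Y} (he : e ∈ meet p (pCore p Y))
    (hze : (z : Y) * e * (z : Y)⁻¹ = e) (l : Lp) (hl : Comm p (z : Y) l) (hlo : ¬ p ∣ orderOf (l : Y)) :
    (l : Y) * e * (l : Y)⁻¹ = e := by
  obtain ⟨h2, h1⟩ := d.coprime_trivial hlo
  have hmem : ∀ v ∈ meet p (pCore p Y), (l : Y) * v * (l : Y)⁻¹ * v⁻¹ ∈ meet p (pCore p Y) := fun v hv =>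
    mul_mem (meet_normal.conj_mem v hv _) (inv_mem hv)
  set w := (l : Y) * e * (l : Y)⁻¹ * e⁻¹ with hw
  have hwN : w ∈ N₁ := h1 e he
  have hzw : (z : Y) * w * (z : Y)⁻¹ = w := by
    rw [hw, show (z : Y) * ((l : Y) * e * (l : Y)⁻¹ * e⁻¹) * (z : Y)⁻¹ =
      (z : Y) * ((l : Y) * e * (l : Y)⁻¹) * (z : Y)⁻¹ * ((z : Y) * e * (z : Y)⁻¹)⁻¹ by group, ← hl e (Or.inl he), hze]
  have hπw : bar ρ (h.toL z : Y ⧸ ρ.ker) (π w) = π w := by
    show ρ (z : Y) (π w) = π w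
    rw [d.rep.act _ w hwN, hzw]
  have hlfix := h.comp.fix_pos (h.toL z) hi.psi hi.sq (h.toL l) (hi.rho_comm d hl) (fun hd => hlo (by
    rw [Subgroup.orderOf_coe]; exact hd.trans (orderOf_map_dvd h.toL l))) (π w) hπw
  have hwfix : (l : Y) * w * (l : Y)⁻¹ = w := by
    refine fix_of_series hlo ⟨1, by rw [pow_one]; exact meet_pow (hmem w (d.le_meet hwN))⟩ (h2 _ ?_)
    rw [← d.rep.zero _ (mul_mem (d.rep.normal.conj_mem w hwN _) (inv_mem hwN)), d.rep.comm_mem _ hwN]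
    exact sub_eq_zero.2 hlfix
  exact fix_of_series hlo ⟨1, by rw [pow_one]; exact meet_pow (hmem e he)⟩ hwfix

/-- An element fixed by `B(S)` and the coprime elements commuting with `z` is fixed by all. -/
theorem fix_of_coprime (hi : Inv h Q z) (d : Data S M ρ π X N₁ N₂) {e : Y}
    (hB : ∀ b ∈ bau p (S : Subgroup Y), b * e * b⁻¹ = e)
    (hcop : ∀ l : Lp, Comm p (z : Y) l → ¬ p ∣ orderOf (l : Y) → (l : Y) * e * (l : Y)⁻¹ = e) :
    ∀ l ∈ Lp, l * e * l⁻¹ = e := by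
  classical
  let H : Subgroup Y := Lp ⊓ Subgroup.centralizer ({e} : Set Y)
  have hmemH : ∀ {l : Y}, l ∈ H ↔ l ∈ Lp ∧ l * e * l⁻¹ = e := fun {l} => by
    simp only [H, Subgroup.mem_inf, Subgroup.mem_centralizer_singleton_iff, mul_inv_eq_iff_eq_mul]
  have hBH : bau p (S : Subgroup Y) ≤ H := fun b hb => hmemH.2 ⟨h.bau_le hb, hB b hb⟩
  have hHM : ¬ H ≤ M := by
    intro hle
    set R := (H.subgroupOf Lp).map h.psi
    have hP : (X.subgroupOf L).map φ ≤ R := h.psi_bau ▸ Subgroup.map_mono (Subgroup.comap_mono hBH)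
    have hXp : IsPGroup p ((X.subgroupOf L).map φ) := by
      obtain ⟨n, -, hn⟩ := h.comp.card
      exact IsPGroup.of_card (h.comp.card_image.trans hn)
    have hR : R = ⊤ := eq_top_of_sylow_coprime (hXp.toSylow h.not_dvd_index) hP fun s hs => by
      obtain ⟨l, hls, hl⟩ := hi.exists_lift d s
      obtain ⟨k, t, ht, hkt⟩ := Nat.exists_eq_pow_mul_and_not_dvd (orderOf_pos l).ne' p hp.out.ne_one
      obtain ⟨m, hm⟩ := exists_pow_eq_self_of_coprime (x := s) (n := p ^ k)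
        ((hp.out.coprime_iff_not_dvd.2 hs).pow_left k)
      refine ⟨(l ^ p ^ k) ^ m, Subgroup.mem_subgroupOf.2 (hmemH.2 ⟨((l ^ p ^ k) ^ m).2, hcop _ ?_ ?_⟩), by rw [map_pow, map_pow, hls, hm]⟩
      · rw [SubgroupClass.coe_pow, SubgroupClass.coe_pow, ← pow_mul]; exact hl.pow _
      · intro hd
        rw [Subgroup.orderOf_coe] at hd
        exact ht (hd.trans (orderOf_dvd_of_pow_eq_one (by
          rw [← pow_mul, ← pow_mul, mul_comm m t, ← mul_assoc, pow_mul, ← hkt, pow_orderOf_eq_one, one_pow])))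
    refine h.not_le fun y hy => ?_
    obtain ⟨a, ha, e'⟩ := hR.ge (Subgroup.mem_top (h.psi ⟨y, hy⟩))
    have h1 : (((a⁻¹ * ⟨y, hy⟩ : Lp)) : Y) ∈ M := h.mem_M_of_psi d (by rw [map_mul, map_inv, e', inv_mul_cancel])
    have h2 := M.mul_mem (hle ha) h1
    simpa using h2
  intro l hl
  exact (hmemH.1 ((h.min H hBH inf_le_left hHM).ge hl)).2

/-- An element fixed by `z` and `B(S)` is fixed by all. -/
theorem fix_all (hi : Inv h Q z) (d : Data S M ρ π X N₁ N₂) {e : Y} (he : e ∈ meet p (pCore p Y))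
    (hze : (z : Y) * e * (z : Y)⁻¹ = e) (hB : ∀ b ∈ bau p (S : Subgroup Y), b * e * b⁻¹ = e) :
    ∀ l ∈ Lp, l * e * l⁻¹ = e :=
  hi.fix_of_coprime d hB fun l hl hlo => hi.fix_coprime d he hze l hl hlo

/-- A central element of `O_p` with fixed `p`th power fixed by `z` and `B(S)` is fixed by all. -/
theorem fix_all_zc (hi : Inv h Q z) (d : Data S M ρ π X N₁ N₂) {e : Y} (he : e ∈ zc p Y)
    (hpow : ∀ l ∈ Lp, l * e ^ p * l⁻¹ = e ^ p) (hze : (z : Y) * e * (z : Y)⁻¹ = e)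
    (hB : ∀ b ∈ bau p (S : Subgroup Y), b * e * b⁻¹ = e) : ∀ l ∈ Lp, l * e * l⁻¹ = e := by
  refine hi.fix_of_coprime d hB fun l hl hlo => ?_
  set u := (l : Y) * e * (l : Y)⁻¹ * e⁻¹ with hu
  have huz : u ∈ zc p Y := mul_mem (zc_normal.conj_mem e he _) (inv_mem he)
  have hup : u ^ p = 1 := by
    have c : Commute ((l : Y) * e * (l : Y)⁻¹) e⁻¹ :=
      Commute.inv_right ((zc_normal.conj_mem e he _).2 e he.1).symm
    rw [hu, c.mul_pow, conj_pow, hpow _ l.2, inv_pow, mul_inv_cancel]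
  have huC : u ∈ cent p (pCore p Y) := ⟨huz.1, hup, fun q hq => huz.2 q hq⟩
  have hzu : (z : Y) * u * (z : Y)⁻¹ = u := by
    rw [hu, show (z : Y) * ((l : Y) * e * (l : Y)⁻¹ * e⁻¹) * (z : Y)⁻¹ =
      (z : Y) * ((l : Y) * e * (l : Y)⁻¹) * (z : Y)⁻¹ * ((z : Y) * e * (z : Y)⁻¹)⁻¹ by group,
      ← hl e (Or.inr he), hze]
  exact fix_of_series hlo ⟨1, by rw [pow_one]; exact hup⟩
    (hi.fix_coprime d (cent_le_meet _ huC) hzu l hl hlo)

/-- A vector inverted by `z` and fixed by `Q`. -/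
theorem exists_root_vector (hi : Inv h Q z) (d : Data S M ρ π X N₁ N₂) :
    ∃ b ∈ meet p (pCore p Y), b ≠ 1 ∧ (z : Y) * b * (z : Y)⁻¹ = b⁻¹ ∧
      ∀ y : Lp, y ∈ (Q : Subgroup Lp) → (y : Y) * b * (y : Y)⁻¹ = b := by
  classical
  have hc := d.ctx
  set Qy := (Q : Subgroup Lp).map Lp.subtype
  have hBQ : bau p (S : Subgroup Y) ≤ Qy := fun b hb => ⟨⟨b, h.bau_le hb⟩, hi.bau_le hb, rfl⟩
  obtain ⟨g, hg, -, -, hgover⟩ := hc.exists_sylow_over (Q.2.map Lp.subtype) ((thompsonJ_le_bau _).trans hBQ)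
  set S' := cm g (S : Subgroup Y)
  set Z' := S' ⊓ Subgroup.centralizer (S' : Set Y)
  have hS'p : IsPGroup p S' := S.2.map _
  have hOS' : pCore p Y ≤ S' := fun o ho => ⟨g⁻¹ * o * g, hc.core_le (by simpa using (inferInstance : (pCore p Y).Normal).conj_mem o ho g⁻¹), by
    show g * (g⁻¹ * o * g) * g⁻¹ = o
    group⟩
  obtain ⟨w₀, hw₀, hw₀move⟩ : ∃ w ∈ Z', ¬ ∀ l ∈ Lp, l * w * l⁻¹ = w := by
    by_contra hcon
    push Not at hcon
    have h1 : S' ⊔ Lp ≤ Subgroup.centralizer (Z' : Set Y) := sup_le (fun s hs c hc' => (hc'.2 s hs).symm)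
      fun l hl c hc' => (mul_inv_eq_iff_eq_mul.1 (hcon c hc' l hl)).symm
    have htop : S' ⊔ Lp = ⊤ := by
      by_contra hne
      exact h.not_le (le_sup_right.trans (hgover _ le_sup_left hne))
    rw [htop] at h1
    refine hc.z_not_normal ⟨fun c hc' t => ?_⟩
    have hcg : g * c * g⁻¹ ∈ Z' := ⟨conj_mem_cm hc'.1, by
      rintro _ ⟨s, hs, rfl⟩
      show g * s * g⁻¹ * (g * c * g⁻¹) = g * c * g⁻¹ * (g * s * g⁻¹)
      rw [show g * s * g⁻¹ * (g * c * g⁻¹) = g * (s * c) * g⁻¹ by group,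
        show g * c * g⁻¹ * (g * s * g⁻¹) = g * (c * s) * g⁻¹ by group, hc'.2 s hs]⟩
    have h2 : ∀ y : Y, y * (g * c * g⁻¹) = g * c * g⁻¹ * y := fun y => (h1 (Subgroup.mem_top y) _ hcg).symm
    have e2 : g * c * g⁻¹ = c := by
      have := congrArg (fun y => g⁻¹ * y) (h2 g)
      simp only [inv_mul_cancel_left] at this
      rw [this]; group
    have e3 := h2 t
    rw [e2] at e3
    rw [show t * c * t⁻¹ = c by rw [e3]; group]
    exact hc'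
  obtain ⟨w, hwmin⟩ := (Set.toFinite {w : Y | w ∈ Z' ∧ ¬ ∀ l ∈ Lp, l * w * l⁻¹ = w}).exists_minimalFor
    (fun w => orderOf w) _ ⟨w₀, hw₀, hw₀move⟩
  obtain ⟨⟨hw, hwmove⟩, hmin⟩ := hwmin
  have hw1 : w ≠ 1 := fun e => hwmove fun l _ => by simp [e]
  have hwp : ∀ l ∈ Lp, l * w ^ p * l⁻¹ = w ^ p := by
    by_contra hm
    have h1 : orderOf w ≤ orderOf (w ^ p) := hmin ⟨pow_mem hw p, hm⟩
      (Nat.le_of_dvd (orderOf_pos w) (orderOf_pow_dvd p))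
    obtain ⟨n, hn⟩ := (IsPGroup.iff_orderOf.1 hS'p) ⟨w, hw.1⟩
    rw [Subgroup.orderOf_mk] at hn
    rcases n with _ | n
    · exact hw1 (orderOf_eq_one_iff.1 (by rw [hn, pow_zero]))
    have h2 : orderOf (w ^ p) = p ^ n := by
      rw [orderOf_pow' w hp.out.ne_zero, hn, Nat.gcd_eq_right (dvd_pow_self p (Nat.succ_ne_zero n)), pow_succ,
        Nat.mul_div_cancel _ hp.out.pos]
    rw [h2, hn] at h1
    exact absurd h1 (not_le.2 (Nat.pow_lt_pow_right hp.out.one_lt (Nat.lt_succ_self n)))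
  have hwO : w ∈ zc p Y := by
    have h1 : w ∈ Subgroup.centralizer (pCore p Y : Set Y) := fun y hy => hw.2 y (hOS' hy)
    exact ⟨hc.con h1, h1⟩
  set k := (z : Y) * w * (z : Y)⁻¹ * w⁻¹ with hk
  have hkz : k ∈ zc p Y := mul_mem (zc_normal.conj_mem w hwO _) (inv_mem hwO)
  have hkp : k ^ p = 1 := by
    have c : Commute ((z : Y) * w * (z : Y)⁻¹) w⁻¹ :=
      Commute.inv_right ((zc_normal.conj_mem w hwO _).2 w hwO.1).symm
    rw [hk, c.mul_pow, conj_pow, hwp _ z.2, inv_pow, mul_inv_cancel]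
  have hQw : ∀ y : Lp, y ∈ (Q : Subgroup Lp) → (y : Y) * w * (y : Y)⁻¹ = w := fun y hy =>
    mul_inv_eq_iff_eq_mul.2 (hw.2 _ (hg ⟨y, hy, rfl⟩))
  refine ⟨k, cent_le_meet _ ⟨hkz.1, hkp, fun q hq => hkz.2 q hq⟩, fun e => hwmove ?_, ?_, fun y hy => ?_⟩
  · refine hi.fix_all_zc d hwO hwp (mul_inv_eq_one.1 e) fun b hb => ?_
    obtain ⟨b', hb', rfl⟩ := hBQ hb
    exact hQw b' hb'
  · have hz2 : (z : Y) * ((z : Y) * w * (z : Y)⁻¹) * (z : Y)⁻¹ = w := by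
      rw [show (z : Y) * ((z : Y) * w * (z : Y)⁻¹) * (z : Y)⁻¹ = ((z : Y) * z) * w * ((z : Y) * z)⁻¹ by group]
      exact mul_inv_eq_iff_eq_mul.2 (hi.sq_zc w hwO).symm
    calc (z : Y) * k * (z : Y)⁻¹
        = (z : Y) * ((z : Y) * w * (z : Y)⁻¹) * (z : Y)⁻¹ * ((z : Y) * w * (z : Y)⁻¹)⁻¹ := by rw [hk]; group
      _ = w * ((z : Y) * w * (z : Y)⁻¹)⁻¹ := by rw [hz2]
      _ = k⁻¹ := by rw [hk]; group
  · have hy' : z⁻¹ * y * z ∈ (Q : Subgroup Lp) := by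
      have := (Subgroup.mem_normalizer_iff.1 (inv_mem hi.normal) y).1 hy
      simpa using this
    have h1 := hQw _ hy'
    calc (y : Y) * k * (y : Y)⁻¹ = (z : Y) * (((z⁻¹ * y * z : Lp) : Y) * w * ((z⁻¹ * y * z : Lp) : Y)⁻¹) *
          (z : Y)⁻¹ * ((y : Y) * w * (y : Y)⁻¹)⁻¹ := by
          rw [hk]; simp only [Subgroup.coe_mul, Subgroup.coe_inv]; group
      _ = k := by rw [h1, hQw y hy]

/-- The Sylow subgroup is `B(S)`. -/
theorem sylow_le_bau (hi : Inv h Q z) (d : Data S M ρ π X N₁ N₂) {x : Lp} (hxQ : x ∈ (Q : Subgroup Lp)) :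
    (x : Y) ∈ bau p (S : Subgroup Y) := by
  classical
  have hc := d.ctx
  have hp2 := hc.odd
  set Qy := (Q : Subgroup Lp).map Lp.subtype
  set E := meet p (pCore p Y)
  set Z₁ := meet p (S : Subgroup Y)
  have hBQ : bau p (S : Subgroup Y) ≤ Qy := fun b hb => ⟨⟨b, h.bau_le hb⟩, hi.bau_le hb, rfl⟩
  have hJQ : thompsonJ p (S : Subgroup Y) ≤ Qy := (thompsonJ_le_bau _).trans hBQ
  obtain ⟨g, hg, hgood, hgbau, hgover⟩ := hc.exists_sylow_over (Q.2.map Lp.subtype) hJQ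
  set S' := cm g (S : Subgroup Y)
  have hzJ : cm (z : Y) (thompsonJ p (S : Subgroup Y)) ≤ S' := by
    refine (cm_mono hJQ).trans (le_trans ?_ hg)
    rintro _ ⟨_, ⟨q, hq, rfl⟩, rfl⟩
    exact ⟨z * q * z⁻¹, (Subgroup.mem_normalizer_iff.1 hi.normal q).1 hq, rfl⟩
  have hzZ : ∀ e ∈ Z₁, (z : Y) * e * (z : Y)⁻¹ ∈ Z₁ := fun e he => Ctx.mem_normalizer_meet hgood hzJ he
  have hparts : ∀ e ∈ Z₁, ∃ a ∈ Z₁, ∃ b ∈ Z₁, e = a * b ∧ (∀ l ∈ Lp, l * a * l⁻¹ = a) ∧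
      (z : Y) * b * (z : Y)⁻¹ = b⁻¹ := by
    intro e he
    obtain ⟨a, ha, b, hb, e', haz, hbz⟩ :=
      exists_parts hp2 (meet_isGood _) hzZ (fun y hy => hi.z_sq (d.meet_le hy)) he
    refine ⟨a, ha, b, hb, e', hi.fix_all d (d.meet_le ha) haz fun t ht => ?_, hbz⟩
    rw [show t * a = a * t from (ht.2 a ha).symm, mul_inv_cancel_right]
  obtain ⟨b, hbE, hb1, hbz, hbfix⟩ := hi.exists_root_vector d
  -- vectors of a section inverted by `z`
  have hneg : ∀ v ∈ E, (z : Y) * v * (z : Y)⁻¹ = v⁻¹ → v ∈ N₁ ∧ bar ρ (h.toL z : Y ⧸ ρ.ker) (π v) = - π v ∧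
      (v ∈ N₂ → v = 1) := by
    intro v hv hvz
    have hvN := hi.neg_mem d hv hvz
    refine ⟨hvN, ?_, fun hv2 => ?_⟩
    · show ρ (z : Y) (π v) = _
      rw [d.rep.act _ v hvN, hvz, d.rep.π_inv hvN]
    · have e := (d.coprime_trivial hi.order).1 v hv2
      rw [hvz] at e
      exact eq_one_of_sq hp2 (mul_eq_one_iff_eq_inv.2 e.symm) (meet_pow hv)
  obtain ⟨hbN, hbn, hb2⟩ := hneg b hbE hbz
  -- `x` times a member of `B` in the kernel
  obtain ⟨t, ht, hte⟩ := hi.split x hxQ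
  set y : Lp := t⁻¹ * x with hy
  have hyQ : y ∈ (Q : Subgroup Lp) := (Q : Subgroup Lp).mul_mem ((Q : Subgroup Lp).inv_mem (hi.bau_le ht)) hxQ
  have hyψ : h.psi y = 1 := by rw [hy, map_mul, map_inv, hte, inv_mul_cancel]
  suffices hyB : (y : Y) ∈ bau p (S : Subgroup Y) by
    have h5 := mul_mem (show (t : Y) ∈ bau p (S : Subgroup Y) from ht) hyB
    rwa [hy, Subgroup.coe_mul, Subgroup.coe_inv, mul_inv_cancel_left] at h5
  rw [← hgbau hBQ]
  refine ⟨hg ⟨y, hyQ, rfl⟩, ?_⟩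
  rw [meet_eq_of_goodMax hgood]
  intro e he
  obtain ⟨a', ha', b', hb', e', hafix', hbz'⟩ := hparts e he
  suffices hb'' : (y : Y) * b' * (y : Y)⁻¹ = b' by
    refine (mul_inv_eq_iff_eq_mul.1 ?_).symm
    rw [e', show (y : Y) * (a' * b') * (y : Y)⁻¹ = (y : Y) * a' * (y : Y)⁻¹ * ((y : Y) * b' * (y : Y)⁻¹) by group,
      hafix' _ y.2, hb'']
  by_cases hb'1 : b' = 1
  · rw [hb'1]; group
  obtain ⟨hb'N, hb'n, hb'2⟩ := hneg b' (d.meet_le hb') hbz'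
  obtain ⟨γ, hγc, hγ⟩ := h.comp.trans (h.toL z) hi.psi hi.sq (π b) (π b') hbn hb'n
    (fun e => hb1 (hb2 ((d.rep.zero b hbN).1 e))) (fun e => hb'1 (hb'2 ((d.rep.zero b' hb'N).1 e)))
  obtain ⟨l, hlψ, hl⟩ := hi.exists_lift d (φ γ)
  have hlb : ρ (l : Y) (π b) = π b' := by
    have h1 := h.comp.ker_neg (h.toL z) hi.psi hi.sq (γ⁻¹ * h.toL l) (by
        rw [map_mul, map_inv, show φ (h.toL l) = φ γ from hlψ, inv_mul_cancel]) (by
        calc γ⁻¹ * h.toL l * h.toL z = γ⁻¹ * h.toL z * h.toL l := by rw [mul_assoc, hi.rho_comm d hl, ← mul_assoc]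
          _ = h.toL z * (γ⁻¹ * h.toL l) := by
            rw [(show Commute γ (h.toL z) from hγc).inv_left.eq, mul_assoc]) (π b) hbn
    have h2 := congrArg (fun u => bar ρ (γ : Y ⧸ ρ.ker) u) h1
    simp only [hγ, Subgroup.coe_mul, Subgroup.coe_inv] at h2
    rw [← act_mul, mul_inv_cancel_left] at h2
    exact h2
  have hlbb' : (l : Y) * b * (l : Y)⁻¹ = b' := by
    set b₁ := (l : Y) * b * (l : Y)⁻¹
    have hb₁N : b₁ ∈ N₁ := d.rep.normal.conj_mem b hbN _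
    have hb₁z : (z : Y) * b₁ * (z : Y)⁻¹ = b₁⁻¹ := by
      show (z : Y) * ((l : Y) * b * (l : Y)⁻¹) * (z : Y)⁻¹ = _
      rw [← hl b (Or.inl hbE), hbz]; simp only [b₁]; group
    have h4 : b₁ * b'⁻¹ ∈ N₂ := (d.rep.zero _ (mul_mem hb₁N (inv_mem hb'N))).1 (by
      rw [d.rep.add _ hb₁N _ (inv_mem hb'N), d.rep.π_inv hb'N, ← d.rep.act _ b hbN, hlb, add_neg_cancel])
    have hE1 : b₁ ∈ E := d.le_meet hb₁N
    have h5 : (z : Y) * (b₁ * b'⁻¹) * (z : Y)⁻¹ = (b₁ * b'⁻¹)⁻¹ := by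
      rw [show (z : Y) * (b₁ * b'⁻¹) * (z : Y)⁻¹ = ((z : Y) * b₁ * (z : Y)⁻¹) * ((z : Y) * b' * (z : Y)⁻¹)⁻¹ by group,
        hb₁z, hbz', inv_inv, show (b₁ * b'⁻¹)⁻¹ = b' * b₁⁻¹ by group]
      exact meet_comm (inv_mem hE1) (d.meet_le hb')
    exact mul_inv_eq_one.1 ((hneg _ (mul_mem hE1 (inv_mem (d.meet_le hb'))) h5).2.2 h4)
  have hy' := hi.core l⁻¹ y hyQ hyψ
  rw [inv_inv] at hy'
  have h6 := hbfix _ hy'
  rw [← hlbb']
  calc (y : Y) * ((l : Y) * b * (l : Y)⁻¹) * (y : Y)⁻¹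
      = (l : Y) * (((l⁻¹ * y * l : Lp) : Y) * b * ((l⁻¹ * y * l : Lp) : Y)⁻¹) * (l : Y)⁻¹ := by
        simp only [Subgroup.coe_mul, Subgroup.coe_inv]; group
    _ = (l : Y) * b * (l : Y)⁻¹ := by rw [h6]

end Inv

end CfsgLib.TransferRoot
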