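import Cfsg.Agent.Lib.TransferRoot.Pushing

/-!
An element of degree at most two on each chief factor below `O_p`.
-/

set_option autoImplicit false
set_option linter.unusedSectionVars false
set_option linter.style.haveILetI false

namespace CfsgLib.TransferRoot

open Cfsg CfsgLib CfsgLib.StrongFusion CfsgLib.ZJ CfsgLib.KInf CfsgLib.RootCommute CfsgLib.WeakClosed
open CfsgLib.SL2Pair (fix)
open scoped commutatorElement

universe u

variable {Y : Type u} [Group Y] [Finite Y] {p : ℕ} [hp : Fact p.Prime] {S : Sylow p Y} {M : Subgroup Y}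

/-- The normal closure of a central element of order `p` of an abelian section. -/
theorem isGood_closure_singleton {z₀ : Y} (hzp : z₀ ^ p = 1)
    (hcomm : ∀ x ∈ Subgroup.normalClosure ({z₀} : Set Y), ∀ y ∈ Subgroup.normalClosure ({z₀} : Set Y), x * y = y * x) :
    IsGood p (Subgroup.normalClosure ({z₀} : Set Y)) :=
  isGood_closure (fun x hx y hy => hcomm x (Subgroup.subset_closure hx) y (Subgroup.subset_closure hy)) fun y hy => by
    obtain ⟨c, hc, hcy⟩ := Group.mem_conjugatesOfSet_iff.1 hy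
    obtain ⟨r, rfl⟩ := isConj_iff.1 hcy
    rw [Set.mem_singleton_iff.1 hc, conj_pow, hzp, mul_one, mul_inv_cancel]

/-- The part of `O_p` centralising the meet. -/
def qc (p : ℕ) (Y : Type*) [Group Y] : Subgroup Y :=
  pCore p Y ⊓ Subgroup.centralizer (meet p (pCore p Y) : Set Y)

theorem qc_normal : (qc p Y).Normal := by
  haveI : (meet p (pCore p Y)).Normal := meet_normal
  haveI : (Subgroup.centralizer (meet p (pCore p Y) : Set Y)).Normal := Subgroup.normal_centralizer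
  exact Subgroup.normal_inf_normal _ _

theorem qc_le_bau {U : Type} [AddCommGroup U] [Finite U] {ρ : Y →* AddMonoid.End U}
  {π : Y → U} {X : Subgroup (Y ⧸ ρ.ker)} {N₁ N₂ : Subgroup Y} (d : Data S M ρ π X N₁ N₂) :
    qc p Y ≤ bau p (S : Subgroup Y) := fun _ hx => ⟨d.ctx.core_le hx.1, fun e he => hx.2 e (d.meet_le he)⟩

/-- An element of degree two on each chief factor, given normal subgroups carrying the double commutators. -/
theorem exists_good_of (h : Ctx S M)
    (hroot : ∀ {P : Type u} [Group P] [Finite P] {U : Type} [AddCommGroup U] [Finite U] (σ : P →* AddMonoid.End U)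
      (T : Sylow p P) (M₀ : Subgroup P), Setting σ T M₀ → (∃ E, IsOffender σ p E) →
        ∃ X, RootProduct σ T M₀ X)
    (hN : ∀ W V : Subgroup Y, IsChiefFactor W V → W ≤ pCore p Y → (∃ w ∈ W, ∃ g : Y, g * w * g⁻¹ * w⁻¹ ∉ V) →
      ∀ a ∈ bau p (S : Subgroup Y), ∀ q ∈ W ⊓ qc p Y, ⁅a, ⁅a, q⁆⁆ ∉ V →
        ∃ N : Subgroup Y, N.Normal ∧ N ≤ W ⊓ qc p Y ∧ IsGood p N ∧
          N ≤ Subgroup.centralizer (qc p Y : Set Y) ∧ ¬ N ≤ V)
    (W V : Subgroup Y) (hWV : IsChiefFactor W V) (hW : W ≤ pCore p Y) :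
    ∃ g ∈ (S : Subgroup Y), g ∉ pCore p Y ∧ ∀ u ∈ W, dl g (p - 1) u ∈ V := by
  classical
  obtain ⟨U, _, _, ρ, π, X, N₁, N₂, d⟩ := exists_data h hroot
  obtain ⟨A, hA, hAO, -⟩ := d.outside
  obtain ⟨a, ha, haO⟩ := SetLike.not_le_iff_exists.1 hAO
  refine ⟨a, hA.1 ha, haO, ?_⟩
  have hp3 : p - 1 = p - 3 + 2 := by
    have := hp.out.two_le
    have := h.odd
    omega
  haveI hWn := hWV.2.1
  haveI hVn := hWV.2.2.1
  suffices hdd : ∀ u ∈ W, ⁅a, ⁅a, u⁆⁆ ∈ V by
    intro u hu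
    rw [hp3, show dl a (p - 3 + 2) u = dl a (p - 3) (dl a 2 u) from Function.iterate_add_apply _ _ _ _]
    refine dl_mem a ?_ _
    exact hdd u hu
  have hdW : ∀ u ∈ W, ⁅a, u⁆ ∈ W := fun u hu => by
    rw [commutatorElement_def]; exact mul_mem (hWn.conj_mem u hu a) (inv_mem hu)
  by_cases hcen : ∀ w ∈ W, ∀ g : Y, g * w * g⁻¹ * w⁻¹ ∈ V
  · intro u hu
    rw [commutatorElement_def]
    exact hcen _ (hdW u hu) a
  push Not at hcen
  obtain ⟨w₀, hw₀, g₀, hg₀⟩ := hcen
  -- the kernel of the meet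
  set E := meet p (pCore p Y) with hE
  haveI : E.Normal := meet_normal
  haveI : (Subgroup.centralizer (E : Set Y)).Normal := Subgroup.normal_centralizer
  set Q := pCore p Y ⊓ Subgroup.centralizer (E : Set Y) with hQ
  haveI : Q.Normal := Subgroup.normal_inf_normal _ _
  set B := bau p (S : Subgroup Y)
  have hQB : Q ≤ B := fun x hx => ⟨h.core_le hx.1, fun e he => hx.2 e (d.meet_le he)⟩
  have haB : a ∈ B := thompsonJ_le_bau _ (le_sSup hA ha : a ∈ thompsonJ p (S : Subgroup Y))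
  have hfix : ∀ y ∈ A, ∀ e ∈ meet p (S : Subgroup Y), y * e * y⁻¹ = e := fun y hy e he =>
    mul_inv_eq_iff_eq_mul.2 (meet_commutes hA he hy)
  have hnorm : ∀ t ∈ (S : Subgroup Y), ∀ e ∈ meet p (S : Subgroup Y), t * e * t⁻¹ ∈ meet p (S : Subgroup Y) :=
    fun t ht e he => Ctx.mem_normalizer_meet rfl (Local.map_conj_le fun x hx =>
      (S : Subgroup Y).mul_mem ((S : Subgroup Y).mul_mem ht (ZJ.thompsonJ_le _ _ hx)) ((S : Subgroup Y).inv_mem ht)) he
  -- double commutators centralise the meet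
  have hcE : ∀ u ∈ W, ⁅a, ⁅a, u⁆⁆ ∈ Subgroup.centralizer (E : Set Y) := by
    intro u hu
    have huS : u ∈ (S : Subgroup Y) := h.core_le (hW hu)
    set a' := u * a * u⁻¹ with ha'
    have h1 : ∀ e ∈ E, a' * e * a'⁻¹ * e⁻¹ ∈ meet p (S : Subgroup Y) := fun e he => by
      have he' : u⁻¹ * e * u ∈ E := by simpa using (inferInstance : E.Normal).conj_mem e he u⁻¹
      have := hnorm u huS _ (d.comm_mem hA ha he')
      rwa [show u * (a * (u⁻¹ * e * u) * a⁻¹ * (u⁻¹ * e * u)⁻¹) * u⁻¹ = a' * e * a'⁻¹ * e⁻¹ by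
        rw [ha']; group] at this
    have h2 : ∀ e ∈ meet p (S : Subgroup Y), a' * e * a'⁻¹ = e := fun e he => by
      have he' := hnorm u⁻¹ (inv_mem huS) e he
      have := hfix a ha _ he'
      calc a' * e * a'⁻¹ = u * (a * (u⁻¹ * e * u⁻¹⁻¹) * a⁻¹) * u⁻¹ := by rw [ha']; group
        _ = e := by rw [this]; group
    have h3 : ∀ e ∈ E, a * (a' * e * a'⁻¹) * a⁻¹ = a' * (a * e * a⁻¹) * a'⁻¹ := by
      intro e he
      have k1 := d.comm_mem hA ha he
      have k2 := h1 e he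
      set c := a * e * a⁻¹ * e⁻¹
      set c' := a' * e * a'⁻¹ * e⁻¹
      have e1 : a * e * a⁻¹ = c * e := by simp only [c]; group
      have e2 : a' * e * a'⁻¹ = c' * e := by simp only [c']; group
      calc a * (a' * e * a'⁻¹) * a⁻¹ = (a * c' * a⁻¹) * (a * e * a⁻¹) := by rw [e2]; group
        _ = c' * (c * e) := by rw [hfix a ha c' k2, e1]
        _ = c * (c' * e) := by rw [← mul_assoc, meet_comm k2 k1, mul_assoc]
        _ = (a' * c * a'⁻¹) * (a' * e * a'⁻¹) := by rw [h2 c k1, e2]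
        _ = a' * (a * e * a⁻¹) * a'⁻¹ := by rw [e1]; group
    set f := QuotientGroup.mk' (Subgroup.centralizer (E : Set Y))
    have hcomm : Commute (f a) (f a') := by
      show f a * f a' = f a' * f a
      rw [← map_mul, ← map_mul]
      refine QuotientGroup.eq.2 fun e he => ?_
      refine (mul_inv_eq_iff_eq_mul.1 ?_).symm
      calc (a * a')⁻¹ * (a' * a) * e * ((a * a')⁻¹ * (a' * a))⁻¹
          = (a * a')⁻¹ * (a' * (a * e * a⁻¹) * a'⁻¹) * (a * a') := by group
        _ = (a * a')⁻¹ * (a * (a' * e * a'⁻¹) * a⁻¹) * (a * a') := by rw [h3 e he]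
        _ = e := by group
    refine (QuotientGroup.eq_one_iff _).1 ?_
    show f ⁅a, ⁅a, u⁆⁆ = 1
    rw [show ⁅a, u⁆ = a * a'⁻¹ by rw [commutatorElement_def, ha']; group, commutatorElement_def, map_mul, map_mul,
      map_mul, map_inv, map_inv, map_mul, map_inv]
    have hk : Commute (f a) (f a * (f a')⁻¹) := (Commute.refl _).mul_right hcomm.inv_right
    rw [hk.eq, mul_inv_cancel_right, mul_inv_cancel]
  by_cases hWQ : W ⊓ Q ≤ V
  · intro u hu
    refine hWQ ⟨?_, ?_, hcE u hu⟩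
    · show ⁅a, ⁅a, u⁆⁆ ∈ W
      rw [commutatorElement_def]; exact mul_mem (hWn.conj_mem _ (hdW u hu) a) (inv_mem (hdW u hu))
    · show ⁅a, ⁅a, u⁆⁆ ∈ pCore p Y
      refine hW ?_
      rw [commutatorElement_def]; exact mul_mem (hWn.conj_mem _ (hdW u hu) a) (inv_mem (hdW u hu))
  have hsplit : W ≤ (W ⊓ Q) ⊔ V := by
    rcases hWV.2.2.2 ((W ⊓ Q) ⊔ V) (Subgroup.sup_normal _ _) le_sup_right (sup_le inf_le_left hWV.1.le) with e | e
    · exact absurd (le_sup_left.trans e.le) hWQ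
    · exact e.ge
  suffices key : ∀ q ∈ W ⊓ Q, ⁅a, ⁅a, q⁆⁆ ∈ V by
    intro u hu
    have hu' := hsplit hu
    rw [← SetLike.mem_coe, Subgroup.mul_normal] at hu'
    obtain ⟨q, hq, v, hv, rfl⟩ := hu'
    have h1 : QuotientGroup.mk' V ⁅a, ⁅a, q⁆⁆ = 1 := (QuotientGroup.eq_one_iff _).2 (key q hq)
    refine (QuotientGroup.eq_one_iff _).1 ?_
    show QuotientGroup.mk' V ⁅a, ⁅a, q * v⁆⁆ = 1
    rw [map_commutatorElement, map_commutatorElement, map_mul,
      show QuotientGroup.mk' V v = 1 from (QuotientGroup.eq_one_iff _).2 hv, mul_one, ← map_commutatorElement,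
      ← map_commutatorElement]
    exact h1
  intro q hq
  set z₀ := ⁅a, ⁅a, q⁆⁆ with hz₀
  by_contra hzV
  have hzW : z₀ ∈ W := by
    rw [hz₀, commutatorElement_def]; exact mul_mem (hWn.conj_mem _ (hdW q hq.1) a) (inv_mem (hdW q hq.1))
  obtain ⟨N, hNn, hNle, hNgood, hNC, hNnV⟩ := hN W V hWV hW ⟨w₀, hw₀, g₀, hg₀⟩ a haB q hq hzV
  haveI := hNn
  have hNV : W ≤ N ⊔ V := by
    rcases hWV.2.2.2 (N ⊔ V) (Subgroup.sup_normal _ _) le_sup_right (sup_le (hNle.trans inf_le_left) hWV.1.le) with e | e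
    · exact absurd (le_sup_left.trans e.le) hNnV
    · exact e.ge
  obtain ⟨U', _, _, σ, τ, hrep, hU', hOker, hirr⟩ := exists_facRep hWV hW
  have hne : ∃ g u, σ g u ≠ u := ⟨g₀, τ w₀, fun e => hg₀ (by
    rw [← hrep.zero _ (mul_mem (hWn.conj_mem w₀ hw₀ g₀) (inv_mem hw₀)), hrep.comm_mem g₀ hw₀, e, sub_self])⟩
  obtain ⟨hset, hkerM⟩ := setting_of_factor h hU' hirr hne
  have hoff := isOffender h hOker hkerM
    (hrep.restrict (N' := N) inferInstance (hNle.trans inf_le_left) hNV hVn) hA hAO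
    ((hNle.trans inf_le_left).trans hW) hNgood fun x hx y hy =>
      hNC hy x ⟨hx.2, fun e he => (d.offends A hA x hx e he).symm⟩
  obtain ⟨X', hX'⟩ := hroot (bar σ) (sylowBar σ S) _ hset ⟨_, hoff⟩
  have hmem := hX'.mem_of_offender _ (Subgroup.map_mono hA.1) hoff ⟨a, ha, rfl⟩
  have hc : ⁅a, q⁆ ∈ W := hdW q hq.1
  refine hzV ((hrep.zero _ hzW).1 ?_)
  rw [hz₀, commutatorElement_def, hrep.comm_mem a hc]
  refine sub_eq_zero.2 (hX'.quad ?_ _ hmem)
  rw [commutatorElement_def, hrep.comm_mem a hq.1]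
  exact sub_mem_img (bar σ) hmem (τ q)

/-- An element of degree two on each chief factor, when no characteristic subgroup is normal. -/
theorem exists_good (h : Ctx S M)
    (hfree : ∀ K : Subgroup ↥(S : Subgroup Y), K ≠ ⊥ → K.Characteristic →
      ¬ (K.map (S : Subgroup Y).subtype).Normal)
    (hroot : ∀ {P : Type u} [Group P] [Finite P] {U : Type} [AddCommGroup U] [Finite U] (σ : P →* AddMonoid.End U)
      (T : Sylow p P) (M₀ : Subgroup P), Setting σ T M₀ → (∃ E, IsOffender σ p E) →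
        ∃ X, RootProduct σ T M₀ X)
    (W V : Subgroup Y) (hWV : IsChiefFactor W V) (hW : W ≤ pCore p Y) :
    ∃ g ∈ (S : Subgroup Y), g ∉ pCore p Y ∧ ∀ u ∈ W, dl g (p - 1) u ∈ V := by
  refine exists_good_of h hroot (fun W V hWV _ _ a haB q hq hzV => ?_) W V hWV hW
  obtain ⟨U, _, _, ρ, π, X, N₁, N₂, d⟩ := exists_data h hroot
  haveI hWn := hWV.2.1
  haveI := qc_normal (p := p) (Y := Y)
  haveI : (W ⊓ qc p Y).Normal := Subgroup.normal_inf_normal _ _
  obtain ⟨hzc, hzp⟩ := d.bau_facts hfree a haB q (qc_le_bau d hq.2)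
  set z₀ := ⁅a, ⁅a, q⁆⁆ with hz₀
  have hd : ∀ u ∈ W ⊓ qc p Y, ⁅a, u⁆ ∈ W ⊓ qc p Y := fun u hu => by
    rw [commutatorElement_def]
    exact mul_mem ((inferInstance : (W ⊓ qc p Y).Normal).conj_mem u hu a) (inv_mem hu)
  have hNle : Subgroup.normalClosure ({z₀} : Set Y) ≤ W ⊓ qc p Y :=
    Subgroup.normalClosure_le_normal (Set.singleton_subset_iff.2 (hd _ (hd q hq)))
  have hNC : Subgroup.normalClosure ({z₀} : Set Y) ≤ Subgroup.centralizer (qc p Y : Set Y) := by
    haveI : (Subgroup.centralizer (qc p Y : Set Y)).Normal := Subgroup.normal_centralizer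
    exact Subgroup.normalClosure_le_normal (Set.singleton_subset_iff.2 fun x hx => hzc x (qc_le_bau d hx))
  exact ⟨_, inferInstance, hNle, isGood_closure_singleton hzp fun x hx y hy => hNC hy x (hNle hx).2, hNC,
    fun hle => hzV (hle (Subgroup.subset_normalClosure rfl))⟩

end CfsgLib.TransferRoot
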