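import Cfsg.Agent.Lib.TransferRoot.Component

/-!
A Sylow subgroup over `B(S)` and a lift of `-1` normalising it.
-/

set_option autoImplicit false
set_option linter.unusedSectionVars false
set_option linter.style.haveILetI false

namespace CfsgLib.TransferRoot

open Cfsg CfsgLib CfsgLib.StrongFusion CfsgLib.ZJ CfsgLib.KInf CfsgLib.RootCommute CfsgLib.WeakClosed
open CfsgLib.SL2Pair (fix)

universe u

variable {Y : Type u} [Group Y] [Finite Y] {p : ℕ} [hp : Fact p.Prime] {S : Sylow p Y} {M : Subgroup Y}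
  {U : Type} [AddCommGroup U] [Finite U] {ρ : Y →* AddMonoid.End U} {π : Y → U}
  {X : Subgroup (Y ⧸ ρ.ker)} {N₁ N₂ : Subgroup Y}
  {L : Subgroup (Y ⧸ ρ.ker)} {F : Type} [Field F] [Fintype F] {φ : L →* Matrix.SpecialLinearGroup (Fin 2) F}
  {Lp : Subgroup Y}

/-- A Sylow subgroup over `B(S)` and a lift of `-1`. -/
structure Inv (h : Push S M ρ X L φ Lp) (Q : Sylow p Lp) (z : Lp) : Prop where
  bau_le : (bau p (S : Subgroup Y)).subgroupOf Lp ≤ (Q : Subgroup Lp)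
  psi : h.psi z = -1
  sq : h.toL z ^ 2 = 1
  sqE : (z : Y) * (z : Y) ∈ Subgroup.centralizer (meet p (pCore p Y) : Set Y)
  normal : z ∈ Subgroup.normalizer ((Q : Subgroup Lp) : Set Lp)
  order : ¬ p ∣ orderOf (z : Y)
  split : ∀ x ∈ (Q : Subgroup Lp), ∃ b ∈ (bau p (S : Subgroup Y)).subgroupOf Lp, h.psi b = h.psi x
  core : ∀ l x : Lp, x ∈ (Q : Subgroup Lp) → h.psi x = 1 → l * x * l⁻¹ ∈ (Q : Subgroup Lp)

namespace Push

theorem le_comap_bau (h : Push S M ρ X L φ Lp) {x : Lp}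
    (hx : x ∈ (bau p (S : Subgroup Y)).subgroupOf Lp) : h.psi x ∈ (X.subgroupOf L).map φ := by
  rw [← h.image]
  refine ⟨h.toL x, ?_, rfl⟩
  exact ⟨(x : Y), hx, rfl⟩

theorem psi_bau (h : Push S M ρ X L φ Lp) :
    ((bau p (S : Subgroup Y)).subgroupOf Lp).map h.psi = (X.subgroupOf L).map φ := by
  refine le_antisymm ?_ ?_
  · rintro _ ⟨x, hx, rfl⟩; exact h.le_comap_bau hx
  rw [← h.image]
  rintro _ ⟨⟨y, hy⟩, hy', rfl⟩
  obtain ⟨b, hb, rfl⟩ := hy'
  exact ⟨⟨b, h.bau_le hb⟩, hb, rfl⟩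

theorem exists_inv (h : Push S M ρ X L φ Lp) (d : Data S M ρ π X N₁ N₂) :
    ∃ (Q : Sylow p Lp) (z : Lp), Inv h Q z := by
  classical
  have hc := d.ctx
  set B := bau p (S : Subgroup Y)
  have hBp : IsPGroup p B := S.2.to_le inf_le_left
  obtain ⟨Q, hQ⟩ := (hBp.of_equiv (Subgroup.subgroupOfEquivOfLe h.bau_le).symm).exists_le_sylow
  have hQM : ∀ x ∈ (Q : Subgroup Lp), (x : Y) ∈ M := fun x hx =>
    hc.pgroup_le (Q.2.map Lp.subtype) (fun y hy =>
      ⟨⟨y, h.bau_le (thompsonJ_le_bau _ hy)⟩, hQ (thompsonJ_le_bau _ hy), rfl⟩) ⟨x, hx, rfl⟩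
  -- the image of the Sylow subgroup
  have himg : (Q : Subgroup Lp).map h.psi = (X.subgroupOf L).map φ := by
    refine (Subgroup.eq_of_le_of_card_ge (h.psi_bau ▸ Subgroup.map_mono hQ) ?_).symm
    obtain ⟨k, hk⟩ := (Q.2.map h.psi).exists_card_eq
    refine Nat.le_of_dvd Nat.card_pos ?_
    have h2 := Subgroup.card_subgroup_dvd_card ((Q : Subgroup Lp).map h.psi)
    rw [← h.imageX_mul, hk] at h2
    rw [hk]
    exact ((hp.out.coprime_iff_not_dvd.2 h.card_F.1).pow_left k).dvd_of_dvd_mul_right h2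
  -- the kernel
  set K := h.psi.ker
  have hKM : ∀ k ∈ K, (k : Y) ∈ M := fun k hk => h.mem_M_of_psi d hk
  have hidx : ¬ p ∣ (((Q : Subgroup Lp) ⊓ K).subgroupOf K).index :=
    not_dvd_relIndex_inf (T := (Q : Subgroup Lp)) (C := K) (N := ⊤) le_top Q.2
      (by rw [Subgroup.relIndex_top_right]; exact Q.not_dvd_index) le_top fun y _ c hc' =>
        (inferInstance : K.Normal).conj_mem c hc' y
  set P : Sylow p K := ((Q.2.to_le inf_le_left).of_equiv
    (Subgroup.subgroupOfEquivOfLe (inf_le_right : (Q : Subgroup Lp) ⊓ K ≤ K)).symm).toSylow hidx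
  have hP : (P : Subgroup K).map K.subtype = (Q : Subgroup Lp) ⊓ K := Subgroup.map_subgroupOf_eq_of_le inf_le_right
  have htop := Sylow.normalizer_sup_eq_top P
  rw [hP] at htop
  set Nz := Subgroup.normalizer (((Q : Subgroup Lp) ⊓ K : Subgroup Lp) : Set Lp)
  have hNz : Nz = ⊤ := by
    have hQN : (Q : Subgroup Lp) ≤ Nz := fun s hs => Local.mem_normalizer_of_map_conj_eq
      (Subgroup.eq_of_le_of_card_ge (Local.map_conj_le fun x hx =>
        ⟨(Q : Subgroup Lp).mul_mem ((Q : Subgroup Lp).mul_mem hs hx.1) ((Q : Subgroup Lp).inv_mem hs),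
          (inferInstance : K.Normal).conj_mem x hx.2 s⟩) (Subgroup.card_map_of_injective (MulAut.conj s).injective).ge)
    have e := h.min (Nz.map Lp.subtype) (fun b hb => ⟨⟨b, h.bau_le hb⟩, hQN (hQ hb), rfl⟩)
      (Subgroup.map_subtype_le _) fun hle => h.not_le fun y hy => by
        have h1 := htop.ge (Subgroup.mem_top (⟨y, hy⟩ : Lp))
        rw [← SetLike.mem_coe, Subgroup.mul_normal] at h1
        obtain ⟨a, ha, b, hb, e⟩ := h1
        rw [show y = (a : Y) * b from (congrArg Subtype.val e).symm]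
        exact M.mul_mem (hle ⟨a, ha, rfl⟩) (hKM b hb)
    refine eq_top_iff.2 fun x _ => ?_
    obtain ⟨x', hx', ex⟩ := e.ge x.2
    rwa [← Subtype.ext ex (a1 := x') (a2 := x)]
  -- a lift of `-1` normalising `Q`
  obtain ⟨y, hy⟩ := h.psi_surjective d (-1)
  set H₀ := ((Q : Subgroup Lp).map h.psi).comap h.psi
  obtain ⟨g, hg, hgQ⟩ := exists_conj_le (N := H₀) (Subgroup.le_comap_map _ _) Q.2
    (fun hd => Q.not_dvd_index (hd.trans (Subgroup.relIndex_dvd_index_of_le (Subgroup.le_comap_map _ _))))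
    (R := cm y (Q : Subgroup Lp)) (by
      rintro _ ⟨x, hx, rfl⟩
      show h.psi (y * x * y⁻¹) ∈ (Q : Subgroup Lp).map h.psi
      rw [map_mul, map_mul, map_inv, hy]
      exact ⟨x, hx, by simp⟩)
    (Q.2.map _)
  obtain ⟨q', hq', eq'⟩ := hg
  set y' := q'⁻¹ * g * y with hy'
  have hy'ψ : h.psi y' = -1 := by rw [hy', map_mul, map_mul, map_inv, eq', inv_mul_cancel, one_mul, hy]
  have hy'N : y' ∈ Subgroup.normalizer ((Q : Subgroup Lp) : Set Lp) := by
    refine Local.mem_normalizer_of_map_conj_eq (Subgroup.eq_of_le_of_card_ge ?_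
      (Subgroup.card_map_of_injective (MulAut.conj y').injective).ge)
    refine Local.map_conj_le fun x hx => ?_
    have h1 : g * (y * x * y⁻¹) * g⁻¹ ∈ (Q : Subgroup Lp) := hgQ (conj_mem_cm (conj_mem_cm hx))
    have h2 := (Q : Subgroup Lp).mul_mem ((Q : Subgroup Lp).mul_mem ((Q : Subgroup Lp).inv_mem hq') h1) hq'
    rwa [hy', show q'⁻¹ * g * y * x * (q'⁻¹ * g * y)⁻¹ = q'⁻¹ * (g * (y * x * y⁻¹) * g⁻¹) * q' by group]
  obtain ⟨a, t, ht, hat⟩ := Nat.exists_eq_pow_mul_and_not_dvd (orderOf_pos y').ne' 2 (by norm_num)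
  have hz2 : (y' ^ t) ^ 2 ^ a = 1 := by rw [← pow_mul, mul_comm, ← hat, pow_orderOf_eq_one]
  set z := y' ^ t with hz
  have hzψ : h.psi z = -1 := by
    rw [hz, map_pow, hy'ψ, Odd.neg_one_pow (Nat.odd_iff.2 (by omega))]
  have hzord : ¬ p ∣ orderOf (z : Y) := fun hd => by
    have h1 : p ∣ 2 ^ a := hd.trans (by rw [Subgroup.orderOf_coe]; exact orderOf_dvd_of_pow_eq_one hz2)
    exact d.ctx.odd ((Nat.prime_dvd_prime_iff_eq hp.out Nat.prime_two).1 (hp.out.dvd_of_dvd_pow h1))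
  have hzsq : h.psi (z * z) = 1 := by rw [map_mul, hzψ]; simp
  have hzz : ¬ p ∣ orderOf (z * z) := fun hd => hzord (by
    rw [Subgroup.orderOf_coe, ← pow_two] at *
    exact hd.trans (orderOf_pow_dvd 2))
  have hzker := h.mem_ker_of_psi hzsq hzz
  refine ⟨Q, z, hQ, hzψ, ?_, fun e he => ?_, Subgroup.pow_mem _ hy'N t, hzord, fun x hx => ?_, fun l x hx hx1 => ?_⟩
  · refine Subtype.ext ?_
    rw [SubgroupClass.coe_pow, pow_two]
    exact (QuotientGroup.eq_one_iff _).2 hzker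
  · exact (mul_inv_eq_iff_eq_mul.1 (d.fix_meet (g := (z : Y) * z) (by
      rw [← Subgroup.coe_mul, Subgroup.orderOf_coe]; exact hzz) hzker he)).symm
  · have h1 : h.psi x ∈ (B.subgroupOf Lp).map h.psi := by rw [h.psi_bau, ← himg]; exact ⟨x, hx, rfl⟩
    obtain ⟨b, hb, e⟩ := h1
    exact ⟨b, hb, e⟩
  · have := (Subgroup.mem_normalizer_iff.1 (hNz.ge (Subgroup.mem_top l)) x).1 ⟨hx, hx1⟩
    exact this.1

end Push

end CfsgLib.TransferRoot
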