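import Cfsg.Agent.Lib.TransferRoot.Good
import Cfsg.Agent.Lib.TransferRoot.Degree

/-!
For odd `p` the normalizers of the nontrivial characteristic subgroups of a Sylow subgroup control transfer, given
the root product of an irreducible module with an offender.
-/

set_option autoImplicit false
set_option linter.unusedSectionVars false
set_option linter.style.haveILetI false

namespace CfsgLib.TransferRoot

open Cfsg CfsgLib CfsgLib.StrongFusion CfsgLib.TransferControl CfsgLib.RootCommute
open scoped commutatorElement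

universe u

variable {p : ℕ} [hp : Fact p.Prime]

variable (p) in
/-- All functors giving a nontrivial characteristic subgroup. -/
def allFunctors : Set (∀ (Q : Type u) [Group Q], Subgroup Q) := {W | IsCharPFunctor p W}

open Classical in
/-- The functor of a characteristic subgroup of one group. -/
noncomputable def ofChar {S₀ : Type u} [Group S₀] (K : Subgroup S₀) : ∀ (Q : Type u) [Group Q], Subgroup Q :=
  fun Q _ => if h : Nonempty (S₀ ≃* Q) then K.map h.some.toMonoidHom else ⊤

theorem map_equiv_eq {A B : Type u} [Group A] [Group B] {K : Subgroup A} (hK : K.Characteristic) (e f : A ≃* B) :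
    K.map e.toMonoidHom = K.map f.toMonoidHom := by
  have h := Subgroup.characteristic_iff_map_eq.1 hK (e.trans f.symm)
  conv_rhs => rw [← h, Subgroup.map_map]
  congr 1
  ext a
  simp

theorem isCharPFunctor_ofChar {S₀ : Type u} [Group S₀] {K : Subgroup S₀} (hK : K ≠ ⊥) (hKc : K.Characteristic) :
    IsCharPFunctor p (ofChar K) := by
  refine ⟨fun Q _ _ _ hQ => ?_, fun Q R _ _ _ _ φ => ?_⟩
  · rw [ofChar]
    split_ifs with h
    · exact fun e => hK ((Subgroup.map_eq_bot_iff_of_injective _ h.some.injective).1 e)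
    · exact top_ne_bot
  · rw [ofChar, ofChar]
    by_cases h : Nonempty (S₀ ≃* Q)
    · have h' : Nonempty (S₀ ≃* R) := ⟨h.some.trans φ⟩
      rw [dif_pos h, dif_pos h', Subgroup.map_map]
      exact map_equiv_eq hKc (h.some.trans φ) h'.some
    · have h' : ¬ Nonempty (S₀ ≃* R) := fun ⟨e⟩ => h ⟨e.trans φ.symm⟩
      rw [dif_neg h, dif_neg h', Subgroup.map_top_of_surjective φ.toMonoidHom φ.surjective]

theorem isCharPFunctor_top : IsCharPFunctor p (fun (Q : Type u) _ => (⊤ : Subgroup Q)) :=
  ⟨fun _ _ _ _ _ => top_ne_bot, fun _ _ _ _ _ _ φ => Subgroup.map_top_of_surjective φ.toMonoidHom φ.surjective⟩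

theorem map_center {G : Type*} [Group G] (T : Subgroup G) :
    (Subgroup.center T).map T.subtype = T ⊓ Subgroup.centralizer (T : Set G) := by
  ext x
  constructor
  · rintro ⟨z, hz, rfl⟩
    exact ⟨z.2, fun y hy => congrArg Subtype.val (Subgroup.mem_center_iff.1 hz ⟨y, hy⟩)⟩
  · rintro ⟨hx, hc⟩
    exact ⟨⟨x, hx⟩, Subgroup.mem_center_iff.2 fun y => Subtype.ext (hc y y.2), rfl⟩

/-- The hypothesis supplied by the structure theorem for irreducible modules with an offender. -/
def HasRootProduct (p : ℕ) [Fact p.Prime] : Prop :=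
  ∀ {P : Type u} [Group P] [Finite P] {U : Type} [AddCommGroup U] [Finite U] (σ : P →* AddMonoid.End U)
    (T : Sylow p P) (M₀ : Subgroup P), Setting σ T M₀ → (∃ E, RootCommute.IsOffender σ p E) →
      ∃ X, RootProduct σ T M₀ X

theorem base_char (hp2 : p ≠ 2) (hroot : HasRootProduct.{u} p) {G : Type u} [Group G] [Finite G] :
    TransferControl.Base p (allFunctors.{u} p) G := by
  intro Y _ _ _ hcon hsub T
  classical
  set O := pCore p Y
  set T₀ := tr (allFunctors p) (T : Subgroup Y)
  have h𝔚 : ∀ W ∈ allFunctors.{u} p, IsCharPFunctor p W := fun _ h => h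
  have hd : ⁅(T : Subgroup Y), (T : Subgroup Y)⁆ ≤ T₀ :=
    derived_le_tr (𝔚 := allFunctors p) (isCharPFunctor_top (p := p)) isCharPFunctor_top T.2
  by_cases hfree : ∃ K : Subgroup ↥(T : Subgroup Y), K ≠ ⊥ ∧ K.Characteristic ∧ (K.map (T : Subgroup Y).subtype).Normal
  · obtain ⟨K, hK, hKc, hKn⟩ := hfree
    refine le_trans (inf_le_inf_right _ (pCore_le_sylow T)) ?_
    refine le_trans (le_of_eq ?_) (le_iSup₂ (f := fun W _ => (T : Subgroup Y) ⊓
      ⁅Subgroup.normalizer (inducedFunctor W (T : Subgroup Y) : Set Y),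
        Subgroup.normalizer (inducedFunctor W (T : Subgroup Y) : Set Y)⁆) (ofChar K) (isCharPFunctor_ofChar hK hKc))
    have e : inducedFunctor (ofChar K) (T : Subgroup Y) = K.map (T : Subgroup Y).subtype := by
      have h : Nonempty (↥(T : Subgroup Y) ≃* ↥(T : Subgroup Y)) := ⟨MulEquiv.refl _⟩
      rw [inducedFunctor, ofChar, dif_pos h, Subgroup.characteristic_iff_map_eq.1 hKc]
    show _ = (T : Subgroup Y) ⊓ ⁅Subgroup.normalizer (inducedFunctor (ofChar K) (T : Subgroup Y) : Set Y),
      Subgroup.normalizer (inducedFunctor (ofChar K) (T : Subgroup Y) : Set Y)⁆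
    rw [e, Subgroup.normalizer_eq_top_iff.2 hKn]
    rfl
  push Not at hfree
  refine inf_commutator_le_of_commutator_le T hd (pCore_le_sylow T) ?_
  have hn : ∀ q ∈ O, ∀ x : Y, x * q * x⁻¹ ∈ O := fun q hq x =>
    (inferInstance : (pCore p Y).Normal).conj_mem q hq x
  have hc : ∀ x : Y, (∀ q ∈ O, ⁅x, q⁆ ∈ T₀) → ∀ t ∈ T₀, t ∈ O → x * t * x⁻¹ ∈ T₀ := fun x hx t ht htQ => by
    rw [show x * t * x⁻¹ = ⁅x, t⁆ * t by simp only [commutatorElement_def]; group]
    exact mul_mem (hx t htQ) ht
  set M := fixer O T₀ hn hc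
  have hproper : ∀ H : Subgroup Y, (T : Subgroup Y) ≤ H → H ≠ ⊤ → ∀ h ∈ H, ∀ q ∈ O, ⁅h, q⁆ ∈ T₀ :=
    fun H hTH hH h hh q hq => TransferControl.over_le h𝔚 T (hsub H hH) hTH ⟨pCore_le_sylow T (by
      rw [commutatorElement_def]
      exact mul_mem (hn q hq h) (inv_mem hq)), Subgroup.commutator_mem_commutator hh (hTH (pCore_le_sylow T hq))⟩
  suffices hall : ∀ x : Y, ∀ q ∈ O, ⁅x, q⁆ ∈ T₀ by
    rw [Subgroup.commutator_le]
    intro q hq x _
    rw [← commutatorElement_inv]
    exact inv_mem (hall x q hq)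
  by_cases hM : M = ⊤
  · exact fun x q hq => hM.ge (Subgroup.mem_top x) q hq
  have hTne : (T : Subgroup Y) ≠ ⊥ := fun e => hM (top_le_iff.1 fun x _ q hq => by
    have hq1 : q = 1 := Subgroup.mem_bot.1 (e.le (pCore_le_sylow T hq))
    subst hq1
    simp)
  haveI : Nontrivial ↥(T : Subgroup Y) := (Subgroup.nontrivial_iff_ne_bot _).2 hTne
  haveI := T.2.center_nontrivial
  have hcen : Subgroup.center ↥(T : Subgroup Y) ≠ ⊥ := (Subgroup.nontrivial_iff_ne_bot _).1 inferInstance
  have hctx : Ctx T M :=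
    { odd := hp2
      con := hcon
      le := fun s hs q hq => hd (Subgroup.commutator_mem_commutator hs (pCore_le_sylow T hq))
      ne := hM
      over_le := fun H hTH hH h hh q hq => hproper H hTH hH h hh q hq
      z_not_normal := fun hn => hfree (Subgroup.center ↥(T : Subgroup Y)) hcen inferInstance
        (by rw [map_center]; exact hn)
      bau_not_normal := fun hn => hfree _
        (fun e => cent_ne_bot T.2 hTne (le_bot_iff.1 (by
          rw [← Subgroup.map_bot (T : Subgroup Y).subtype, ← e, (char_bau (p := p) (T : Subgroup Y)).2]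
          exact fun x hx => ⟨hx.1, fun y hy => hx.2.2 y (meet_le _ hy)⟩)))
        (char_bau (T : Subgroup Y)).1 (by rw [(char_bau (p := p) (T : Subgroup Y)).2]; exact hn) }
  exact fix_of_degree_each T (pCore_le_sylow T) (tr_le _ _) hd hproper (exists_good hctx (fun K hK hKc => hfree K hK hKc) hroot)

/-- **Control of transfer.** -/
theorem focal_eq (hp2 : p ≠ 2) (hroot : HasRootProduct.{u} p) {G : Type u} [Group G] [Finite G] (S : Sylow p G)
    (hS : (S : Subgroup G) ≠ ⊥) :
    (S : Subgroup G) ⊓ commutator G = ⨆ K : {K : Subgroup ↥(S : Subgroup G) // K ≠ ⊥ ∧ K.Characteristic},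
      (S : Subgroup G) ⊓ ⁅Subgroup.normalizer
        ((((K : Subgroup ↥(S : Subgroup G))).map (S : Subgroup G).subtype : Subgroup G) : Set G),
        Subgroup.normalizer ((((K : Subgroup ↥(S : Subgroup G))).map (S : Subgroup G).subtype : Subgroup G) : Set G)⁆ := by
  have h𝔚 : ∀ W ∈ allFunctors.{u} p, IsCharPFunctor p W := fun _ h => h
  refine le_antisymm ((ok_of_base h𝔚 (derived_of_mem h𝔚 (isCharPFunctor_top (p := p)))
    (base_char hp2 hroot) S).trans (iSup₂_le fun W hW => ?_))
    (iSup_le fun K => inf_le_inf_left _ (Subgroup.commutator_mono le_top le_top))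
  haveI : Nontrivial ↥(S : Subgroup G) := (Subgroup.nontrivial_iff_ne_bot _).2 hS
  refine le_trans (le_of_eq rfl) (le_iSup (fun K : {K : Subgroup ↥(S : Subgroup G) // K ≠ ⊥ ∧ K.Characteristic} =>
      (S : Subgroup G) ⊓ ⁅Subgroup.normalizer
        ((((K : Subgroup ↥(S : Subgroup G))).map (S : Subgroup G).subtype : Subgroup G) : Set G),
        Subgroup.normalizer ((((K : Subgroup ↥(S : Subgroup G))).map (S : Subgroup G).subtype : Subgroup G) : Set G)⁆)
    ⟨W ↥(S : Subgroup G), h𝔚 W hW |>.1 _ S.2 inferInstance,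
      Subgroup.characteristic_iff_map_eq.2 fun φ => (h𝔚 W hW).2 _ _ S.2 φ⟩)

end CfsgLib.TransferRoot
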