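import Cfsg.Agent.Lib.TransferRoot.Base
import Cfsg.Agent.Lib.WeakClosed.Reduce

/-!
Elements moving the Thompson subgroup, and the subgroups over `B(S)` in one component.
-/

set_option autoImplicit false
set_option linter.unusedSectionVars false
set_option linter.style.haveILetI false

namespace CfsgLib.TransferRoot

open Cfsg CfsgLib CfsgLib.StrongFusion CfsgLib.ZJ CfsgLib.KInf CfsgLib.RootCommute CfsgLib.WeakClosed
open CfsgLib.SL2Pair (fix)

universe u

variable {Y : Type u} [Group Y] [Finite Y] {p : ℕ} [hp : Fact p.Prime] {S : Sylow p Y} {M : Subgroup Y}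

namespace Ctx

theorem conj_goodMax {R : Subgroup Y} {g : Y} (hR : goodMax p R = goodMax p (S : Subgroup Y))
    (hg : cm g (thompsonJ p (S : Subgroup Y)) ≤ R) {A : Subgroup Y} (hA : A ∈ goodMax p (S : Subgroup Y)) :
    cm g A ∈ goodMax p (S : Subgroup Y) := by
  rw [← hR] at hA ⊢
  refine ⟨(cm_mono ((le_sSup (hR ▸ hA) : A ≤ thompsonJ p (S : Subgroup Y)))).trans hg,
    isGood_map _ hA.2.1, fun B hB hBg => ?_⟩
  rw [card_cm]
  exact hA.2.2 B hB hBg

theorem mem_normalizer_meet {R : Subgroup Y} {g : Y} (hR : goodMax p R = goodMax p (S : Subgroup Y))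
    (hg : cm g (thompsonJ p (S : Subgroup Y)) ≤ R) {x : Y} (hx : x ∈ meet p (S : Subgroup Y)) :
    g * x * g⁻¹ ∈ meet p (S : Subgroup Y) := by
  refine mem_meet.2 fun A hA => ?_
  have himg : (cm g) '' goodMax p (S : Subgroup Y) = goodMax p (S : Subgroup Y) := by
    refine Set.eq_of_subset_of_ncard_le ?_ ?_ (Set.toFinite _)
    · rintro _ ⟨B, hB, rfl⟩; exact conj_goodMax hR hg hB
    · rw [Set.ncard_image_of_injective _ fun A B e => by
        have := congrArg (cm g⁻¹) e; rwa [cm_inv_cm, cm_inv_cm] at this]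
  obtain ⟨B, hB, rfl⟩ := himg.ge hA
  exact conj_mem_cm (mem_meet.1 hx B hB)

theorem thompsonJ_le_M (h : Ctx S M) : thompsonJ p (S : Subgroup Y) ≤ M := (ZJ.thompsonJ_le _ _).trans h.le

theorem thompsonJ_ne_bot (h : Ctx S M) : thompsonJ p (S : Subgroup Y) ≠ ⊥ := fun e => by
  obtain ⟨A, hA⟩ := goodMax_nonempty p (S : Subgroup Y)
  refine cent_ne_bot S.2 h.sylow_ne_bot (le_bot_iff.1 (e ▸ ((cent_le_meet _).trans fun x hx => ?_)))
  exact le_sSup hA (mem_meet.1 hx A hA)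

theorem mem_of_conj_le (h : Ctx S M) {g : Y} (hg : cm g (thompsonJ p (S : Subgroup Y)) ≤ M) : g ∈ M := by
  have hidx : ¬ p ∣ (S : Subgroup Y).relIndex M := fun hd =>
    S.not_dvd_index (hd.trans (Subgroup.relIndex_dvd_index_of_le h.le))
  obtain ⟨m, hm, hmS⟩ := exists_conj_le h.le S.2 hidx hg ((S.2.to_le (ZJ.thompsonJ_le _ _)).map _)
  rw [cm_cm] at hmS
  set J := thompsonJ p (S : Subgroup Y) with hJdef
  have hJ : cm (m * g) J ≤ J := by
    refine Subgroup.map_le_iff_le_comap.2 (sSup_le fun A hA => Subgroup.map_le_iff_le_comap.1 ?_)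
    exact le_sSup (conj_goodMax rfl hmS hA)
  have hN : Subgroup.normalizer (J : Set Y) ≤ M := by
    refine h.over_le _ (fun s hs => Local.mem_normalizer_of_map_conj_eq (Subgroup.eq_of_le_of_card_ge ?_
      (card_cm s J).ge)) fun e => ?_
    · refine Subgroup.map_le_iff_le_comap.2 (sSup_le fun A hA => Subgroup.map_le_iff_le_comap.1 ?_)
      refine le_sSup (conj_goodMax rfl (Local.map_conj_le fun x hx => ?_) hA)
      exact (S : Subgroup Y).mul_mem ((S : Subgroup Y).mul_mem hs (ZJ.thompsonJ_le _ _ hx)) ((S : Subgroup Y).inv_mem hs)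
    · obtain ⟨A, hA, hAO⟩ := exists_outside h
      exact hAO ((le_sSup hA : A ≤ J).trans (le_pCore (hN := Subgroup.normalizer_eq_top_iff.1 e)
        (S.2.to_le (ZJ.thompsonJ_le _ _))))
  have h1 : m * g ∈ M := hN (Local.mem_normalizer_of_map_conj_eq (Subgroup.eq_of_le_of_card_ge hJ (card_cm _ J).ge))
  have h2 := mul_mem (inv_mem hm) h1
  rwa [inv_mul_cancel_left] at h2

theorem pgroup_le (h : Ctx S M) {R : Subgroup Y} (hR : IsPGroup p R) (hJ : thompsonJ p (S : Subgroup Y) ≤ R) :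
    R ≤ M := by
  by_contra hne
  obtain ⟨y, hy, hy'⟩ := SetLike.exists_of_lt
    (lt_inf_normalizer' hR (inf_le_left : R ⊓ M ≤ R) fun e => hne (e ▸ inf_le_right))
  refine hy' ⟨hy.1, h.mem_of_conj_le (g := y) ?_⟩
  refine Local.map_conj_le fun x hx => ?_
  exact ((Subgroup.mem_normalizer_iff.1 hy.2 x).1 ⟨hJ hx, h.thompsonJ_le_M hx⟩).2

/-- A Sylow subgroup containing a given `p`-group over `J(S)`. -/
theorem exists_sylow_over (h : Ctx S M) {Q : Subgroup Y} (hQ : IsPGroup p Q)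
    (hJ : thompsonJ p (S : Subgroup Y) ≤ Q) :
    ∃ g : Y, Q ≤ cm g (S : Subgroup Y) ∧ goodMax p (cm g (S : Subgroup Y)) = goodMax p (S : Subgroup Y) ∧
      (bau p (S : Subgroup Y) ≤ Q → bau p (cm g (S : Subgroup Y)) = bau p (S : Subgroup Y)) ∧
      ∀ H : Subgroup Y, cm g (S : Subgroup Y) ≤ H → H ≠ ⊤ → H ≤ M := by
  obtain ⟨g₀, hg₀⟩ : ∃ g₀ ∈ (⊤ : Subgroup Y), cm g₀ Q ≤ (S : Subgroup Y) :=
    exists_conj_le le_top S.2 (by rw [Subgroup.relIndex_top_right]; exact S.not_dvd_index) le_top hQ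
  set g := g₀⁻¹
  have hQg : Q ≤ cm g (S : Subgroup Y) := (cm_inv_cm g₀ Q).ge.trans (cm_mono hg₀.2)
  have hgood := goodMax_cm_eq (p := p) (hJ.trans hQg)
  have hgM : g ∈ M := by
    refine h.mem_of_conj_le ((cm_mono (ZJ.thompsonJ_le _ _)).trans ?_)
    exact h.pgroup_le (S.2.map _) (hJ.trans hQg)
  refine ⟨g, hQg, hgood, fun hBQ => ?_, fun H hH hne => ?_⟩
  · refine (Subgroup.eq_of_le_of_card_ge (le_inf (hBQ.trans hQg) ?_) ?_).symm
    · rw [meet_eq_of_goodMax hgood]; exact inf_le_right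
    · exact (le_of_eq (congrArg (fun K : Subgroup Y => Nat.card K) (bau_map (MulAut.conj g).injective _))).trans
        (card_cm g _).le
  · intro x hx
    have h1 : cm g⁻¹ H ≤ M := by
      refine h.over_le _ ((cm_inv_cm g (S : Subgroup Y)).ge.trans (cm_mono hH)) fun e => hne ?_
      have h2 : cm g (cm g⁻¹ H) = cm g ⊤ := by rw [e]
      rw [cm_cm, mul_inv_cancel, cm_one] at h2
      rw [h2]
      exact Subgroup.map_top_of_surjective _ (MulAut.conj g).surjective
    have h2 := h1 (conj_mem_cm hx)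
    have h3 := M.mul_mem (M.mul_mem hgM h2) (M.inv_mem hgM)
    rwa [show g * (g⁻¹ * x * g⁻¹⁻¹) * g⁻¹ = x by group] at h3

end Ctx

namespace Data

variable {U : Type} [AddCommGroup U] [Finite U] {ρ : Y →* AddMonoid.End U}
  {π : Y → U} {X : Subgroup (Y ⧸ ρ.ker)} {N₁ N₂ : Subgroup Y}

theorem fix_meet (d : Data S M ρ π X N₁ N₂) {g : Y} (hg : ¬ p ∣ orderOf g) (hker : g ∈ ρ.ker) {e : Y}
    (he : e ∈ meet p (pCore p Y)) : g * e * g⁻¹ = e := by
  obtain ⟨h2, h1⟩ := d.coprime_trivial hg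
  have hmem : ∀ v ∈ meet p (pCore p Y), g * v * g⁻¹ * v⁻¹ ∈ meet p (pCore p Y) := fun v hv =>
    mul_mem (meet_normal.conj_mem v hv g) (inv_mem hv)
  have hfix : ∀ v ∈ N₁, g * v * g⁻¹ = v := fun v hv => by
    refine fix_of_series hg ⟨1, by rw [pow_one]; exact meet_pow (hmem v (d.le_meet hv))⟩ (h2 _ ?_)
    rw [← d.rep.zero _ (mul_mem (d.rep.normal.conj_mem v hv g) (inv_mem hv)), d.rep.comm_mem g hv,
      MonoidHom.mem_ker.1 hker]
    exact sub_self _
  exact fix_of_series hg ⟨1, by rw [pow_one]; exact meet_pow (hmem e he)⟩ (hfix _ (h1 e he))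

end Data

end CfsgLib.TransferRoot
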