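import Cfsg.Agent.Lib.TransferRoot.Factor

/-!
Elementary abelian subgroups of largest order as offenders on a chief factor, and what exactness gives.
-/

set_option autoImplicit false
set_option linter.unusedSectionVars false

namespace CfsgLib.TransferRoot

open Cfsg CfsgLib CfsgLib.StrongFusion CfsgLib.ZJ CfsgLib.KInf CfsgLib.RootCommute
open CfsgLib.SL2Pair (fix)

universe u

variable {Y : Type u} [Group Y] [Finite Y] {p : ℕ} [hp : Fact p.Prime] {S : Sylow p Y} {M : Subgroup Y}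
  {U : Type} [AddCommGroup U] [Finite U] {ρ : Y →* AddMonoid.End U} {π : Y → U} {N N₁ N₂ A : Subgroup Y}

theorem inf_ker_eq (h : Ctx S M) (hO : pCore p Y ≤ ρ.ker) (hM : ρ.ker ≤ M) (hA : A ≤ (S : Subgroup Y)) :
    A ⊓ ρ.ker = A ⊓ pCore p Y :=
  le_antisymm (fun _ hx => ⟨hx.1, h.le_core_of_normal hM ⟨hA hx.1, hx.2⟩⟩) (inf_le_inf_left _ hO)

theorem card_image_mul (h : Ctx S M) (hO : pCore p Y ≤ ρ.ker) (hM : ρ.ker ≤ M) (hA : A ≤ (S : Subgroup Y)) :
    Nat.card (A.map (QuotientGroup.mk' ρ.ker)) * Nat.card ↥(A ⊓ pCore p Y) = Nat.card A := by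
  have h1 := card_map_mul_inf (QuotientGroup.mk' ρ.ker) A
  rwa [QuotientGroup.ker_mk', inf_ker_eq h hO hM hA] at h1

theorem isGood_sup_inf (h : Ctx S M) (hA : A ∈ goodMax p (S : Subgroup Y)) (hNS : N ≤ pCore p Y) (hg : IsGood p N)
    (hc : ∀ x ∈ A ⊓ pCore p Y, ∀ y ∈ N, x * y = y * x) :
    (A ⊓ pCore p Y) ⊔ N ≤ (S : Subgroup Y) ∧ IsGood p (A ⊓ pCore p Y ⊔ N : Subgroup Y) := by
  refine ⟨sup_le (inf_le_left.trans hA.1) (hNS.trans h.core_le), ?_⟩
  rw [← Subgroup.closure_eq (A ⊓ pCore p Y), ← Subgroup.closure_eq N, ← Subgroup.closure_union]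
  refine isGood_closure ?_ ?_
  · rintro x (hx | hx) y (hy | hy)
    exacts [hA.2.1.1 x hx.1 y hy.1, hc x hx y hy, (hc y hy x hx).symm, hg.1 x hx y hy]
  · rintro x (hx | hx)
    exacts [hA.2.1.2 x hx.1, hg.2 x hx]

/-- The counts. -/
theorem count (h : Ctx S M) (hO : pCore p Y ≤ ρ.ker) (hM : ρ.ker ≤ M) (hrep : FacRep N₁ N₂ ρ π)
    (hA : A ∈ goodMax p (S : Subgroup Y)) (hNS : N ≤ pCore p Y) (hg : IsGood p N)
    (hc : ∀ x ∈ A ⊓ pCore p Y, ∀ y ∈ N, x * y = y * x) :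
    Nat.card ↥(A ⊓ pCore p Y ⊔ N : Subgroup Y) ≤ Nat.card A ∧
      Nat.card N * Nat.card A ≤ Nat.card ↥(A ⊓ pCore p Y ⊔ N : Subgroup Y) *
        (Nat.card (A.map (QuotientGroup.mk' ρ.ker)) * Nat.card ↥(N ⊓ Subgroup.centralizer (A : Set Y))) ∧
      Nat.card ↥(N₁ ⊓ Subgroup.centralizer (A : Set Y)) ≤
        Nat.card (fix ρ A) * Nat.card ↥(N₁ ⊓ Subgroup.centralizer (A : Set Y) ⊓ N₂) ∧
      (Nat.card (fix ρ A) * Nat.card ↥(N₁ ⊓ Subgroup.centralizer (A : Set Y) ⊓ N₂) ≤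
          Nat.card ↥(N₁ ⊓ Subgroup.centralizer (A : Set Y)) →
        ∀ w ∈ fix ρ A, ∃ c ∈ N₁ ⊓ Subgroup.centralizer (A : Set Y), π c = w) := by
  obtain ⟨hle, hgood⟩ := isGood_sup_inf h hA hNS hg hc
  refine ⟨hA.2.2 _ hle hgood, ?_, ?_⟩
  · have h1 := card_sup_mul (A := A ⊓ pCore p Y) (B := N) fun x hx => Subgroup.mem_normalizer_iff.2 fun y =>
      ⟨fun hy => by rw [hc x hx y hy]; simpa using hy, fun hy => by
        have e := hc x hx _ hy
        rw [show x * y * x⁻¹ * x = x * y by group] at e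
        rwa [mul_left_cancel e] at hy⟩
    have h2 := card_image_mul h hO hM hA.1
    have h3 : Nat.card ↥(A ⊓ pCore p Y ⊓ N) ≤ Nat.card ↥(N ⊓ Subgroup.centralizer (A : Set Y)) :=
      Subgroup.card_le_of_le fun x hx => ⟨hx.2, fun a ha => hA.2.1.1 a ha x hx.1.1⟩
    calc Nat.card N * Nat.card A
        = Nat.card (A.map (QuotientGroup.mk' ρ.ker)) * (Nat.card ↥(A ⊓ pCore p Y) * Nat.card N) := by
          rw [← h2]; ring
      _ = Nat.card ↥(A ⊓ pCore p Y ⊔ N : Subgroup Y) *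
            (Nat.card (A.map (QuotientGroup.mk' ρ.ker)) * Nat.card ↥(A ⊓ pCore p Y ⊓ N)) := by rw [← h1]; ring
      _ ≤ _ := Nat.mul_le_mul_left _ (Nat.mul_le_mul_left _ h3)
  · exact hrep.card_inf_eq _ inf_le_left _ fun c hc' a ha => by
      rw [hrep.act a c hc'.1, show a * c * a⁻¹ = c by rw [hc'.2 a ha]; group]

/-- The image is an offender. -/
theorem isOffender (h : Ctx S M) (hO : pCore p Y ≤ ρ.ker) (hM : ρ.ker ≤ M) (hrep : FacRep N N₂ ρ π)
    (hA : A ∈ goodMax p (S : Subgroup Y)) (hAO : ¬ A ≤ pCore p Y) (hNS : N ≤ pCore p Y) (hg : IsGood p N)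
    (hc : ∀ x ∈ A ⊓ pCore p Y, ∀ y ∈ N, x * y = y * x) :
    IsOffender (bar ρ) p (A.map (QuotientGroup.mk' ρ.ker)) := by
  refine ⟨fun e => hAO fun x hx => h.le_core_of_normal hM ⟨hA.1 hx, ?_⟩, ?_, ?_, ?_⟩
  · have := e.le ⟨x, hx, rfl⟩
    rwa [Subgroup.mem_bot, QuotientGroup.mk'_apply, QuotientGroup.eq_one_iff] at this
  · rintro _ ⟨a, ha, rfl⟩ _ ⟨b, hb, rfl⟩
    rw [← map_mul, hA.2.1.1 a ha b hb, map_mul]
  · rintro _ ⟨a, ha, rfl⟩
    rw [← map_pow, hA.2.1.2 a ha, map_one]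
  · obtain ⟨h1, h2, h3, -⟩ := count h hO hM hrep hA hNS hg hc
    rw [mu, fix_bar]
    set cI := Nat.card (A.map (QuotientGroup.mk' ρ.ker))
    have h4 : Nat.card ↥(N ⊓ Subgroup.centralizer (A : Set Y) ⊓ N₂) ≤ Nat.card N₂ := Subgroup.card_le_of_le inf_le_right
    have h5 : Nat.card N ≤ cI * Nat.card ↥(N ⊓ Subgroup.centralizer (A : Set Y)) :=
      Nat.le_of_mul_le_mul_right (h2.trans ((Nat.mul_le_mul_right _ h1).trans_eq (mul_comm _ _))) Nat.card_pos
    rw [hrep.card_eq] at h5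
    refine Nat.le_of_mul_le_mul_right (h5.trans ?_) (Nat.card_pos (α := N₂))
    calc cI * Nat.card ↥(N ⊓ Subgroup.centralizer (A : Set Y))
        ≤ cI * (Nat.card (fix ρ A) * Nat.card N₂) :=
          Nat.mul_le_mul_left _ (h3.trans (Nat.mul_le_mul_left _ h4))
      _ = _ := (mul_assoc _ _ _).symm

/-- An offender that gains nothing: everything is exact. -/
theorem exact_of_bound (h : Ctx S M) (hO : pCore p Y ≤ ρ.ker) (hM : ρ.ker ≤ M) (hrep : FacRep N₁ N₂ ρ π)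
    (hA : A ∈ goodMax p (S : Subgroup Y)) (h₁N : N₁ ≤ N) (hNS : N ≤ pCore p Y) (hg : IsGood p N)
    (hc : ∀ x ∈ A ⊓ pCore p Y, ∀ y ∈ N, x * y = y * x)
    (hb : Nat.card (A.map (QuotientGroup.mk' ρ.ker)) * Nat.card (fix ρ A) ≤ Nat.card U) :
    (A ⊓ pCore p Y ⊔ N : Subgroup Y) ∈ goodMax p (S : Subgroup Y) ∧
      N₂ ≤ Subgroup.centralizer (A : Set Y) ∧
      (∀ w ∈ fix ρ A, ∃ c ∈ N₁ ⊓ Subgroup.centralizer (A : Set Y), π c = w) ∧
      N ≤ N₁ ⊔ (N ⊓ Subgroup.centralizer (A : Set Y)) := by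
  obtain ⟨h1, h2, h3, h4⟩ := count h hO hM hrep hA hNS hg hc
  obtain ⟨hle, hgood⟩ := isGood_sup_inf h hA hNS hg hc
  haveI := hrep.normal
  set C := Subgroup.centralizer (A : Set Y)
  set cI := Nat.card (A.map (QuotientGroup.mk' ρ.ker))
  set cF := Nat.card (fix ρ A)
  set cG := Nat.card ↥(A ⊓ pCore p Y ⊔ N : Subgroup Y)
  set c2 := Nat.card ↥(N₁ ⊓ C ⊓ N₂)
  set cS := Nat.card ↥(N₁ ⊔ (N ⊓ C) : Subgroup Y)
  have hprod : cS * Nat.card ↥(N₁ ⊓ C) = Nat.card ↥(N ⊓ C) * Nat.card N₁ := by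
    have := card_sup_mul (A := N ⊓ C) (B := N₁)
      (by rw [Subgroup.normalizer_eq_top]; exact le_top)
    rwa [sup_comm, show N ⊓ C ⊓ N₁ = N₁ ⊓ C from le_antisymm (fun x hx => ⟨hx.2, hx.1.2⟩)
      (fun x hx => ⟨⟨h₁N hx.1, hx.2⟩, hx.1⟩)] at this
  have hc2 : c2 ≤ Nat.card N₂ := Subgroup.card_le_of_le inf_le_right
  have hcS : cS ≤ Nat.card N := Subgroup.card_le_of_le (sup_le h₁N inf_le_left)
  have hN1 := hrep.card_eq
  -- the whole chain
  have key : Nat.card A * Nat.card N * (Nat.card U * Nat.card N₂) ≤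
      cG * cS * (cI * cF) * c2 := by
    calc Nat.card A * Nat.card N * (Nat.card U * Nat.card N₂)
        = Nat.card N * Nat.card A * Nat.card N₁ := by rw [hN1]; ring
      _ ≤ cG * (cI * Nat.card ↥(N ⊓ C)) * Nat.card N₁ := Nat.mul_le_mul_right _ h2
      _ = cG * cI * (cS * Nat.card ↥(N₁ ⊓ C)) := by rw [hprod]; ring
      _ ≤ cG * cI * (cS * (cF * c2)) := Nat.mul_le_mul_left _ (Nat.mul_le_mul_left _ h3)
      _ = _ := by ring
  have upper : cG * cS * (cI * cF) * c2 ≤ Nat.card A * Nat.card N * (Nat.card U * Nat.card N₂) := by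
    calc cG * cS * (cI * cF) * c2 ≤ Nat.card A * Nat.card N * Nat.card U * Nat.card N₂ :=
          Nat.mul_le_mul (Nat.mul_le_mul (Nat.mul_le_mul h1 hcS) hb) hc2
      _ = _ := by ring
  have hposA : 0 < Nat.card A := Nat.card_pos
  have hposN : 0 < Nat.card N := Nat.card_pos
  have hposU : 0 < Nat.card U := Nat.card_pos
  have hpos2 : 0 < Nat.card N₂ := Nat.card_pos
  have e1 : cG = Nat.card A := by
    refine le_antisymm h1 (not_lt.1 fun hlt => absurd key (not_le.2 ?_))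
    calc cG * cS * (cI * cF) * c2 ≤ cG * Nat.card N * Nat.card U * Nat.card N₂ :=
          Nat.mul_le_mul (Nat.mul_le_mul (Nat.mul_le_mul_left _ hcS) hb) hc2
      _ < Nat.card A * Nat.card N * Nat.card U * Nat.card N₂ := by gcongr
      _ = _ := by ring
  have e2 : c2 = Nat.card N₂ := by
    refine le_antisymm hc2 (not_lt.1 fun hlt => absurd key (not_le.2 ?_))
    calc cG * cS * (cI * cF) * c2 ≤ Nat.card A * Nat.card N * Nat.card U * c2 :=
          Nat.mul_le_mul_right _ (Nat.mul_le_mul (Nat.mul_le_mul h1 hcS) hb)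
      _ < Nat.card A * Nat.card N * Nat.card U * Nat.card N₂ := by gcongr
      _ = _ := by ring
  have e3 : cS = Nat.card N := by
    refine le_antisymm hcS (not_lt.1 fun hlt => absurd key (not_le.2 ?_))
    calc cG * cS * (cI * cF) * c2 ≤ Nat.card A * cS * Nat.card U * Nat.card N₂ :=
          Nat.mul_le_mul (Nat.mul_le_mul (Nat.mul_le_mul_right _ h1) hb) hc2
      _ < Nat.card A * Nat.card N * Nat.card U * Nat.card N₂ := by gcongr
      _ = _ := by ring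
  have e4 : cF * c2 ≤ Nat.card ↥(N₁ ⊓ C) := by
    by_contra hlt
    rw [not_le] at hlt
    refine absurd (key.trans upper) (fun _ => ?_)
    have hI : 0 < cI := Nat.card_pos
    have hlow : Nat.card A * Nat.card N * (Nat.card U * Nat.card N₂) < cG * cS * (cI * cF) * c2 := by
      calc Nat.card A * Nat.card N * (Nat.card U * Nat.card N₂)
          = Nat.card N * Nat.card A * Nat.card N₁ := by rw [hN1]; ring
        _ ≤ cG * (cI * Nat.card ↥(N ⊓ C)) * Nat.card N₁ := Nat.mul_le_mul_right _ h2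
        _ = cG * cI * (cS * Nat.card ↥(N₁ ⊓ C)) := by rw [hprod]; ring
        _ < cG * cI * (cS * (cF * c2)) := by
          rw [e1, e3]; gcongr
        _ = _ := by ring
    exact absurd upper (not_le.2 hlow)
  refine ⟨⟨hle, hgood, fun B hB hBg => by rw [show Nat.card ↥(A ⊓ pCore p Y ⊔ N : Subgroup Y) = Nat.card A from e1]; exact hA.2.2 B hB hBg⟩,
    fun x hx => (((Subgroup.eq_of_le_of_card_ge inf_le_right e2.ge).ge hx).1).2, h4 e4,
    (Subgroup.eq_of_le_of_card_ge (sup_le h₁N inf_le_left) e3.ge).ge⟩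

end CfsgLib.TransferRoot
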