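import Cfsg.Agent.Lib.TransferRoot.Eigen
import Cfsg.Agent.Lib.PushPair.Reduce
import Cfsg.Agent.Lib.Elementary
import Cfsg.Agent.S2808

/-!
Pushing up at `B(S)`: the double commutators in `B(S)` are central of order `p`.
-/

set_option autoImplicit false
set_option linter.unusedSectionVars false
set_option linter.style.haveILetI false

namespace CfsgLib.TransferRoot

open Cfsg CfsgLib CfsgLib.StrongFusion CfsgLib.ZJ CfsgLib.KInf CfsgLib.RootCommute CfsgLib.WeakClosed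
open scoped commutatorElement

universe u

/-- Not small in the sense of pushing up gives the conclusion wanted. -/
theorem double_commutator_of_small {B : Type u} [Group B] [Finite B] {p : ℕ} [hp : Fact p.Prime] (hp2 : p ≠ 2)
    (hB : IsPGroup p B) (h : (if p = 2 then ⁅frattini B, (⊤ : Subgroup B)⁆ ⊔ (frattini ↥(frattini B)).map (frattini B).subtype
      else if p = 3 then ⁅⁅frattini B, (⊤ : Subgroup B)⁆, (⊤ : Subgroup B)⁆ ⊔ (frattini ↥(frattini B)).map (frattini B).subtype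
      else ⁅frattini B, (⊤ : Subgroup B)⁆ ⊔ Cfsg.powerClosure p 1 (⊤ : Subgroup B)) = ⊥) (x y : B) :
    (∀ b : B, b * ⁅x, ⁅x, y⁆⁆ = ⁅x, ⁅x, y⁆⁆ * b) ∧ ⁅x, ⁅x, y⁆⁆ ^ p = 1 := by
  have hc : ⁅x, y⁆ ∈ frattini B :=
    commutator_le_frattini_pGroup hB (Subgroup.commutator_mem_commutator (Subgroup.mem_top x) (Subgroup.mem_top y))
  have h1 : ⁅x, ⁅x, y⁆⁆ ∈ ⁅frattini B, (⊤ : Subgroup B)⁆ := by
    rw [← commutatorElement_inv]
    exact inv_mem (Subgroup.commutator_mem_commutator hc (Subgroup.mem_top x))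
  rw [if_neg hp2] at h
  by_cases h3 : p = 3
  · rw [if_pos h3, sup_eq_bot_iff] at h
    have hcen : ⁅frattini B, (⊤ : Subgroup B)⁆ ≤ Subgroup.centralizer ((⊤ : Subgroup B) : Set B) :=
      Subgroup.commutator_eq_bot_iff_le_centralizer.1 h.1
    refine ⟨fun b => hcen h1 b (Subgroup.mem_top b), ?_⟩
    have hΦ : ⁅x, ⁅x, y⁆⁆ ∈ frattini B :=
      commutator_le_frattini_pGroup hB (Subgroup.commutator_mem_commutator (Subgroup.mem_top _) (Subgroup.mem_top _))
    have h4 := pow_mem_frattini_pGroup (hB.to_subgroup (frattini B)) ⟨_, hΦ⟩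
    have h5 : (⟨_, hΦ⟩ : frattini B) ^ p = 1 := by
      have h6 : frattini ↥(frattini B) = ⊥ :=
        (Subgroup.map_eq_bot_iff_of_injective _ (frattini B).subtype_injective).1 h.2
      rwa [h6, Subgroup.mem_bot] at h4
    exact congrArg Subtype.val h5
  · rw [if_neg h3, sup_eq_bot_iff] at h
    rw [h.1, Subgroup.mem_bot] at h1
    rw [h1]
    exact ⟨fun b => by simp, one_pow p⟩

variable {Y : Type u} [Group Y] [Finite Y] {p : ℕ} [hp : Fact p.Prime] {S : Sylow p Y} {M : Subgroup Y}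
  {U : Type} [AddCommGroup U] [Finite U] {ρ : Y →* AddMonoid.End U} {π : Y → U}
  {X : Subgroup (Y ⧸ ρ.ker)} {N₁ N₂ : Subgroup Y}
  {L : Subgroup (Y ⧸ ρ.ker)} {F : Type} [Field F] [Fintype F] {φ : L →* Matrix.SpecialLinearGroup (Fin 2) F}
  {Lp : Subgroup Y}

theorem Push.core_normalizes (h : Push S M ρ X L φ Lp) (hc : Ctx S M) {o : Y} (ho : o ∈ pCore p Y) :
    ∀ l ∈ Lp, o * l * o⁻¹ ∈ Lp := by
  obtain ⟨x, hx, hxM⟩ := SetLike.not_le_iff_exists.1 h.not_le
  have hS : ∀ t : Y, t ∈ pCore p Y → ∀ b ∈ bau p (S : Subgroup Y), t * b * t⁻¹ ∈ bau p (S : Subgroup Y) := by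
    intro t ht b hb
    obtain ⟨hcb, heb⟩ := char_bau (p := p) (S : Subgroup Y)
    haveI := hcb
    have := (inferInstance : ((bau p (S : Subgroup Y)).subgroupOf (S : Subgroup Y)).Normal).conj_mem
      ⟨b, hb.1⟩ hb ⟨t, hc.core_le ht⟩
    exact this
  intro l hl
  rw [← h.conj_gen hc hx hxM] at hl ⊢
  have hle : bau p (S : Subgroup Y) ⊔ cm x (bau p (S : Subgroup Y)) ≤
      (bau p (S : Subgroup Y) ⊔ cm x (bau p (S : Subgroup Y))).comap (MulAut.conj o).toMonoidHom := by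
    refine sup_le (fun b hb => Subgroup.mem_sup_left (hS o ho b hb)) ?_
    rintro _ ⟨b, hb, rfl⟩
    refine Subgroup.mem_sup_right ⟨(x⁻¹ * o * x) * b * (x⁻¹ * o * x)⁻¹,
      hS _ (by simpa using (inferInstance : (pCore p Y).Normal).conj_mem o ho x⁻¹) b hb, ?_⟩
    show x * _ * x⁻¹ = o * (x * b * x⁻¹) * o⁻¹
    group
  exact hle hl

theorem Push.constrained (h : Push S M ρ X L φ Lp) (hc : Ctx S M) :
    Subgroup.centralizer (pCore p Lp : Set Lp) ≤ pCore p Lp := by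
  haveI : (Subgroup.centralizer (pCore p Lp : Set Lp)).Normal := Subgroup.normal_centralizer
  refine le_pCore fun c => ?_
  obtain ⟨k, t, ht, hkt⟩ := Nat.exists_eq_pow_mul_and_not_dvd (orderOf_pos (c : Lp)).ne' p hp.out.ne_one
  refine ⟨k, Subtype.ext ?_⟩
  rw [SubgroupClass.coe_pow, Subgroup.coe_one]
  set g := (c : Lp) ^ p ^ k with hg
  have hgo : ¬ p ∣ orderOf g := fun hd => ht (hd.trans (orderOf_dvd_of_pow_eq_one (by
    rw [← pow_mul, ← hkt, pow_orderOf_eq_one])))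
  have hgC : g ∈ Subgroup.centralizer (pCore p Lp : Set Lp) := Subgroup.pow_mem _ c.2 _
  haveI hn : ((pCore p Y).subgroupOf Lp).Normal := Subgroup.Normal.subgroupOf inferInstance _
  have hle : (pCore p Y).subgroupOf Lp ≤ pCore p Lp :=
    le_pCore ((isPGroup_pCore p).comap_of_injective Lp.subtype Lp.subtype_injective)
  have hfix : ∀ o ∈ pCore p Y, (g : Y) * o * (g : Y)⁻¹ = o := by
    intro o ho
    set kk := (g : Y) * o * (g : Y)⁻¹ * o⁻¹ with hkk
    have hkO : kk ∈ pCore p Y := mul_mem ((inferInstance : (pCore p Y).Normal).conj_mem o ho _) (inv_mem ho)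
    have hkL : kk ∈ Lp := by
      rw [show kk = (g : Y) * (o * (g : Y)⁻¹ * o⁻¹) by rw [hkk]; group]
      exact Lp.mul_mem g.2 (h.core_normalizes hc ho _ (Lp.inv_mem g.2))
    obtain ⟨j, hj⟩ := isPGroup_pCore p ⟨kk, hkO⟩
    refine fix_of_series (by rwa [Subgroup.orderOf_coe]) ⟨j, congrArg Subtype.val hj⟩ ?_
    have := hgC ⟨kk, hkL⟩ (hle hkO)
    exact mul_inv_eq_iff_eq_mul.2 (congrArg Subtype.val this).symm
  have hgO : (g : Y) ∈ pCore p Y := hc.con fun o ho => (mul_inv_eq_iff_eq_mul.1 (hfix o ho)).symm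
  obtain ⟨j, hj⟩ := isPGroup_pCore p ⟨(g : Y), hgO⟩
  have h1 : orderOf g ∣ p ^ j := orderOf_dvd_of_pow_eq_one (Subtype.ext (by simpa using congrArg Subtype.val hj))
  exact orderOf_eq_one_iff.1 (Nat.Coprime.eq_one_of_dvd ((hp.out.coprime_iff_not_dvd.2 hgo).pow_left j).symm h1)

theorem Push.exists_unique_max (h : Push S M ρ X L φ Lp) (hc : Ctx S M) {τR : Subgroup Lp}
    (hτ : τR = (bau p (S : Subgroup Y)).subgroupOf Lp) : ∃! K : Subgroup Lp, IsCoatom K ∧ τR ≤ K := by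
  have hne : M.subgroupOf Lp ≠ ⊤ := fun e => h.not_le (Subgroup.subgroupOf_eq_top.1 e)
  have hbig : ∀ K : Subgroup Lp, τR ≤ K → K ≠ ⊤ → K ≤ M.subgroupOf Lp := fun K hK hK' y hy => by
    by_contra hyM
    refine hK' (eq_top_iff.2 fun w _ => ?_)
    have e := h.min (K.map Lp.subtype) (fun b hb => ⟨⟨b, h.bau_le hb⟩, hK (hτ ▸ hb), rfl⟩)
      (Subgroup.map_subtype_le _) fun hle => hyM (hle ⟨y, hy, rfl⟩)
    obtain ⟨w', hw', ew⟩ := e.ge w.2
    rwa [← Subtype.ext ew (a1 := w') (a2 := w)]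
  have hB : τR ≤ M.subgroupOf Lp := hτ ▸ Subgroup.comap_mono (inf_le_left.trans hc.le)
  refine ⟨M.subgroupOf Lp, ⟨⟨hne, fun K hK => by_contra fun hK' => hK.not_ge (hbig K (hB.trans hK.le) hK')⟩, hB⟩,
    fun K ⟨hKc, hK⟩ => ?_⟩
  exact ((hKc.le_iff.1 (hbig K hK hKc.1)).resolve_left hne).symm

/-- `B(S)` inside a minimal subgroup over it. -/
def Push.emb (h : Push S M ρ X L φ Lp) : ↥((bau p (S : Subgroup Y)).subgroupOf (S : Subgroup Y)) →* Lp :=
  ((S : Subgroup Y).subtype.comp ((bau p (S : Subgroup Y)).subgroupOf (S : Subgroup Y)).subtype).codRestrict Lp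
    fun b => h.bau_le b.2

theorem Push.emb_injective (h : Push S M ρ X L φ Lp) : Function.Injective h.emb := fun _ _ e =>
  Subtype.ext (Subtype.ext (congrArg (fun w : Lp => (w : Y)) e))

theorem Push.emb_range (h : Push S M ρ X L φ Lp) : h.emb.range = (bau p (S : Subgroup Y)).subgroupOf Lp := by
  ext w
  exact ⟨by rintro ⟨b, rfl⟩; exact b.2, fun hw => ⟨⟨⟨(w : Y), hw.1⟩, hw⟩, rfl⟩⟩

theorem Inv.sylow_eq {h : Push S M ρ X L φ Lp} {Q : Sylow p Lp} {z : Lp} (hi : Inv h Q z)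
    (d : Data S M ρ π X N₁ N₂) : (Q : Subgroup Lp) = h.emb.range :=
  le_antisymm (fun _ hw => h.emb_range ▸ hi.sylow_le_bau d hw) (h.emb_range ▸ hi.bau_le)

/-- A characteristic subgroup of `B(S)` normal in the minimal subgroup is normal. -/
theorem Push.normal_of_normal (h : Push S M ρ X L φ Lp) (hc : Ctx S M)
    {T : Subgroup ↥((bau p (S : Subgroup Y)).subgroupOf (S : Subgroup Y))} (hTc : T.Characteristic)
    (hTn : (T.map h.emb).Normal) :
    ((T.map ((bau p (S : Subgroup Y)).subgroupOf (S : Subgroup Y)).subtype).map (S : Subgroup Y).subtype).Normal := by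
  set K := T.map ((bau p (S : Subgroup Y)).subgroupOf (S : Subgroup Y)).subtype
  have hKc : K.Characteristic := PushPair.char_map_subtype (char_bau (p := p) (S : Subgroup Y)).1 hTc
  refine Subgroup.normalizer_eq_top_iff.1 ?_
  set N := Subgroup.normalizer ((K.map (S : Subgroup Y).subtype : Subgroup Y) : Set Y)
  have hSN : (S : Subgroup Y) ≤ N := fun s hs => Local.mem_normalizer_of_map_conj_eq
    (Subgroup.eq_of_le_of_card_ge (by
      rintro _ ⟨_, ⟨k, hk, rfl⟩, rfl⟩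
      haveI := hKc
      exact ⟨⟨s, hs⟩ * k * ⟨s, hs⟩⁻¹, (inferInstance : K.Normal).conj_mem k hk _, rfl⟩)
      (Subgroup.card_map_of_injective (MulAut.conj s).injective).ge)
  have hLN : Lp ≤ N := fun l hl => Local.mem_normalizer_of_map_conj_eq
    (Subgroup.eq_of_le_of_card_ge (by
      rintro _ ⟨_, ⟨_, ⟨t, ht, rfl⟩, rfl⟩, rfl⟩
      obtain ⟨t', ht', e⟩ := hTn.conj_mem (h.emb t) ⟨t, ht, rfl⟩ ⟨l, hl⟩
      exact ⟨_, ⟨t', ht', rfl⟩, congrArg Subtype.val e⟩)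
      (Subgroup.card_map_of_injective (MulAut.conj l).injective).ge)
  by_contra hne
  exact h.not_le (hLN.trans (hc.over_le N hSN hne))

theorem Push.exists_psl (h : Push S M ρ X L φ Lp) (d : Data S M ρ π X N₁ N₂) :
    ∃ (K : Subgroup Lp) (_ : K.Normal) (n : ℕ), 1 ≤ n ∧ Fintype.card F = p ^ n ∧
      Nonempty (Lp ⧸ K ≃* Matrix.ProjectiveSpecialLinearGroup (Fin 2) F) := by
  set ψ' := (QuotientGroup.mk' (Subgroup.center (Matrix.SpecialLinearGroup (Fin 2) F))).comp h.psi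
  have hψ' : Function.Surjective ψ' := (QuotientGroup.mk'_surjective _).comp (h.psi_surjective d)
  obtain ⟨n, hn, hq⟩ := h.comp.card
  exact ⟨ψ'.ker, inferInstance, n, by omega, hq, ⟨QuotientGroup.quotientKerEquivOfSurjective ψ' hψ'⟩⟩

/-- Pushing up. -/
theorem Data.bau_facts (d : Data S M ρ π X N₁ N₂)
    (hfree : ∀ K : Subgroup ↥(S : Subgroup Y), K ≠ ⊥ → K.Characteristic →
      ¬ (K.map (S : Subgroup Y).subtype).Normal) :
    ∀ x ∈ bau p (S : Subgroup Y), ∀ y ∈ bau p (S : Subgroup Y),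
      (∀ b ∈ bau p (S : Subgroup Y), b * ⁅x, ⁅x, y⁆⁆ = ⁅x, ⁅x, y⁆⁆ * b) ∧ ⁅x, ⁅x, y⁆⁆ ^ p = 1 := by
  classical
  obtain ⟨L, F, _, _, φ, Lp, h⟩ := d.exists_push
  obtain ⟨Q, z, hi⟩ := h.exists_inv d
  have hc := d.ctx
  set B := bau p (S : Subgroup Y)
  set B₀ := B.subgroupOf (S : Subgroup Y) with hB₀
  have hB₀p : IsPGroup p B₀ := S.2.to_subgroup _
  by_contra hfacts
  obtain ⟨S₁, S₂, h₁, h₂, c₁, c₂, -, -, -, hall⟩ := Cfsg.Agent.S2808.result (S := ↥B₀) hB₀p _ rfl (by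
    by_contra hno
    push Not at hno
    refine hfacts fun x hx y hy => ?_
    obtain ⟨e1, e2⟩ := double_commutator_of_small hc.odd hB₀p hno.2 ⟨⟨x, hx.1⟩, hx⟩ ⟨⟨y, hy.1⟩, hy⟩
    refine ⟨fun b hb => congrArg (fun w : B₀ => ((w : (S : Subgroup Y)) : Y)) (e1 ⟨⟨b, hb.1⟩, hb⟩), ?_⟩
    exact congrArg (fun w : B₀ => ((w : (S : Subgroup Y)) : Y)) e2)
  obtain ⟨K, hK, n, hn, hq, he⟩ := h.exists_psl d
  have hres := hall Lp h.emb h.emb_injective ⟨Q, hi.sylow_eq d⟩ (h.constrained hc)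
    (h.exists_unique_max hc h.emb_range) ⟨K, hK, F, inferInstance, inferInstance, n, hn, hq, he⟩
  have key : ∀ T : Subgroup B₀, T ≠ ⊥ → T.Characteristic → (T.map h.emb).Normal → False := fun T hT hTc hTn =>
    hfree _ (fun e => hT ((Subgroup.map_eq_bot_iff_of_injective _ B₀.subtype_injective).1 e))
      (PushPair.char_map_subtype (char_bau (p := p) (S : Subgroup Y)).1 hTc) (h.normal_of_normal hc hTc hTn)
  rcases hres with hr | hr
  exacts [key S₁ h₁ c₁ hr, key S₂ h₂ c₂ hr]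

end CfsgLib.TransferRoot
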