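import Cfsg.Agent.Lib.TransferRoot.ThreePush

/-!
For `p = 3`: elements of degree two on the chief factors below `O_p`, when `Z(S)` and the characteristic
subgroup `K` of `B(S)` are not normal.
-/

set_option autoImplicit false
set_option linter.unusedSectionVars false
set_option linter.style.haveILetI false

namespace CfsgLib.TransferRoot

open Cfsg CfsgLib CfsgLib.StrongFusion CfsgLib.ZJ CfsgLib.KInf CfsgLib.RootCommute CfsgLib.WeakClosed
open CfsgLib.SL2Pair (fix)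
open scoped commutatorElement

universe u

variable {Y : Type u} [Group Y] [Finite Y] {p : ℕ} [hp : Fact p.Prime] {S : Sylow p Y} {M : Subgroup Y}

theorem exists_good_three (h : Ctx S M)
    (hK : ¬ (((PushPair.kk p ↥((bau p (S : Subgroup Y)).subgroupOf (S : Subgroup Y))).map
      ((bau p (S : Subgroup Y)).subgroupOf (S : Subgroup Y)).subtype).map (S : Subgroup Y).subtype).Normal)
    (hroot : ∀ {P : Type u} [Group P] [Finite P] {U : Type} [AddCommGroup U] [Finite U] (σ : P →* AddMonoid.End U)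
      (T : Sylow p P) (M₀ : Subgroup P), Setting σ T M₀ → (∃ E, IsOffender σ p E) →
        ∃ X, RootProduct σ T M₀ X)
    (W V : Subgroup Y) (hWV : IsChiefFactor W V) (hW : W ≤ pCore p Y) :
    ∃ g ∈ (S : Subgroup Y), g ∉ pCore p Y ∧ ∀ u ∈ W, dl g (p - 1) u ∈ V := by
  refine exists_good_of h hroot (fun W V hWV hW hne a haB q hq hzV => ?_) W V hWV hW
  obtain ⟨U, _, _, ρ, π, X, N₁, N₂, d⟩ := exists_data h hroot
  obtain ⟨Lp, hBL, -, hres, hconcl⟩ := d.concl hK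
  haveI hWn := hWV.2.1
  haveI := qc_normal (p := p) (Y := Y)
  haveI hWQ : (W ⊓ qc p Y).Normal := Subgroup.normal_inf_normal _ _
  set B := bau p (S : Subgroup Y)
  have hd : ∀ g : Y, ∀ u ∈ W ⊓ qc p Y, ⁅g, u⁆ ∈ W ⊓ qc p Y := fun g u hu => by
    rw [commutatorElement_def]
    exact mul_mem (hWQ.conj_mem u hu g) (inv_mem hu)
  have hcore : ∀ x (hx : x ∈ qc p Y), (⟨x, hBL (qc_le_bau d hx)⟩ : Lp) ∈ pCore p Lp := fun x hx => by
    exact le_pCore (hN := Subgroup.Normal.subgroupOf qc_normal Lp) (((isPGroup_pCore p).to_le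
      (inf_le_left : qc p Y ≤ _)).comap_of_injective Lp.subtype Lp.subtype_injective) hx
  by_contra hno
  have hfixed : ∀ a' ∈ B, ∀ q' ∈ W ⊓ qc p Y, ∀ r : Lp, r ∈ Cfsg.pResidual p Lp →
      ⁅(r : Y), ⁅a', ⁅a', q'⁆⁆⁆ ∈ V := by
    intro a' ha' q' hq' r hr
    by_contra hζ
    obtain ⟨hzc, hzp⟩ := hconcl a' ha' q' (qc_le_bau d hq'.2) r hr
    set ζ := ⁅(r : Y), ⁅a', ⁅a', q'⁆⁆⁆ with hζdef
    have hNle : Subgroup.normalClosure ({ζ} : Set Y) ≤ W ⊓ qc p Y :=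
      Subgroup.normalClosure_le_normal (Set.singleton_subset_iff.2 (hd _ _ (hd _ _ (hd _ _ hq'))))
    have hNC : Subgroup.normalClosure ({ζ} : Set Y) ≤ Subgroup.centralizer (qc p Y : Set Y) := by
      haveI : (Subgroup.centralizer (qc p Y : Set Y)).Normal := Subgroup.normal_centralizer
      exact Subgroup.normalClosure_le_normal (Set.singleton_subset_iff.2 fun x hx => hzc ⟨x, _⟩ (hcore x hx))
    exact hno ⟨_, inferInstance, hNle, isGood_closure_singleton hzp fun x hx y hy => hNC hy x (hNle hx).2, hNC,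
      fun hle => hζ (hle (Subgroup.subset_normalClosure rfl))⟩
  obtain ⟨w₀, hw₀, g₀, hg₀⟩ := hne
  haveI := hWV.2.2.1
  obtain ⟨U', _, _, σ, τ, hrep, hU', hOker, hirr⟩ := exists_facRep hWV hW
  have hmoved : ∃ g u, σ g u ≠ u := ⟨g₀, τ w₀, fun e => hg₀ (by
    rw [← hrep.zero _ (mul_mem (hWn.conj_mem w₀ hw₀ g₀) (inv_mem hw₀)), hrep.comm_mem g₀ hw₀, e, sub_self])⟩
  obtain ⟨-, hkerM⟩ := setting_of_factor h hU' hirr hmoved
  have hZW : ∀ a' : Y, ∀ q' ∈ W ⊓ qc p Y, ⁅a', ⁅a', q'⁆⁆ ∈ W := fun a' q' hq' => (hd _ _ (hd _ _ hq')).1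
  let K : Subgroup Y :=
    { carrier := {g | ∀ a' ∈ B, ∀ q' ∈ W ⊓ qc p Y, σ g (τ ⁅a', ⁅a', q'⁆⁆) = τ ⁅a', ⁅a', q'⁆⁆}
      one_mem' := fun a' _ q' _ => by rw [map_one]; rfl
      mul_mem' := fun {x y} hx hy a' ha' q' hq' => by rw [act_mul, hy a' ha' q' hq', hx a' ha' q' hq']
      inv_mem' := fun {x} hx a' ha' q' hq' => by
        conv_lhs => rw [← hx a' ha' q' hq']
        rw [← act_mul, inv_mul_cancel, map_one]; rfl }
  have hRK : (Cfsg.pResidual p Lp).map Lp.subtype ≤ K := by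
    rintro _ ⟨r, hr, rfl⟩ a' ha' q' hq'
    show σ (r : Y) _ = _
    rw [← sub_eq_zero, ← hrep.comm_mem _ (hZW a' q' hq'), ← commutatorElement_def,
      hrep.zero _ (hd _ _ (hd _ _ (hd _ _ hq'))).1]
    exact hfixed a' ha' q' hq' r hr
  have hBS : ∀ s ∈ (S : Subgroup Y), ∀ b ∈ B, s * b * s⁻¹ ∈ B := by
    intro s hs b hb
    obtain ⟨hcb, -⟩ := char_bau (p := p) (S : Subgroup Y)
    haveI := hcb
    exact (inferInstance : (B.subgroupOf (S : Subgroup Y)).Normal).conj_mem ⟨b, hb.1⟩ hb ⟨s, hs⟩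
  have hcl : ∀ s ∈ (S : Subgroup Y), ∀ g ∈ K, s * g * s⁻¹ ∈ K := by
    intro s hs g hg a' ha' q' hq'
    have e : s⁻¹ * ⁅a', ⁅a', q'⁆⁆ * s⁻¹⁻¹ = ⁅s⁻¹ * a' * s⁻¹⁻¹, ⁅s⁻¹ * a' * s⁻¹⁻¹, s⁻¹ * q' * s⁻¹⁻¹⁆⁆ := by
      simp only [commutatorElement_def]; group
    have h1 := hg _ (hBS s⁻¹ (inv_mem hs) a' ha') _ (hWQ.conj_mem q' hq' s⁻¹)
    rw [← e, ← hrep.act _ _ (hZW a' q' hq')] at h1
    rw [act_mul, act_mul, h1, ← act_mul, mul_inv_cancel, map_one]; rfl
  have hKn : K.Normal := by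
    refine Subgroup.normalizer_eq_top_iff.1 ?_
    by_contra hne'
    refine hres (hRK.trans (Subgroup.le_normalizer.trans (h.over_le _ (fun s hs => ?_) hne')))
    exact Local.mem_normalizer_of_map_conj_eq (Subgroup.eq_of_le_of_card_ge (Local.map_conj_le (hcl s hs))
      (card_cm s K).ge)
  refine hres (hRK.trans (le_trans ?_ hkerM))
  have htop : fix σ K = ⊤ := by
    refine (hirr (fix σ K) fun g x hx k hk => ?_).resolve_left fun e => hzV ((hrep.zero _ (hZW a q hq)).1 ?_)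
    · have h1 := hx (g⁻¹ * k * g) (by simpa using hKn.conj_mem k hk g⁻¹)
      calc σ k (σ g x) = σ g (σ (g⁻¹ * k * g) x) := by rw [← act_mul, ← act_mul]; congr 2; group
        _ = σ g x := by rw [h1]
    · have hmem : τ ⁅a, ⁅a, q⁆⁆ ∈ fix σ K := fun k hk => hk a haB q hq
      rwa [e, AddSubgroup.mem_bot] at hmem
  intro k hk
  exact MonoidHom.mem_ker.2 (AddMonoidHom.ext fun x => htop.ge (AddSubgroup.mem_top x) k hk)

end CfsgLib.TransferRoot
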