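import Cfsg.Agent.Lib.TransferRoot.ThreeGood
import Cfsg.Agent.Lib.TransferRoot.Main
import Cfsg.Agent.Lib.RootCommute.Global

/-!
For `p = 3`: the centre and one further characteristic subgroup of `B(S)` control transfer.
-/

set_option autoImplicit false
set_option linter.unusedSectionVars false
set_option linter.style.haveILetI false

universe u

namespace CfsgLib.PushPair

open Cfsg Subgroup
open scoped commutatorElement

variable {p : ℕ} [Fact p.Prime] {S S' : Type u} [Group S] [Group S']

/-- A situation seen over an isomorphic group. -/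
def Sit.reindex (s : Sit p S') (e : S ≃* S') : Sit p S :=
  { s with
    τ := s.τ.comp e.toMonoidHom
    inj := s.inj.comp e.injective
    range_eq := by
      rw [s.range_eq, MonoidHom.range_comp, MonoidHom.range_eq_top.mpr (show Function.Surjective e.toMonoidHom from e.surjective), ← MonoidHom.range_eq_map] }

theorem map_kk_le (e : S ≃* S') : (kk p S).map e.toMonoidHom ≤ kk p S' := by
  rw [kk, Subgroup.map_iSup]
  refine iSup_le fun X => le_kk ?_ fun s hs => ?_
  · refine Subgroup.characteristic_iff_map_le.mpr fun φ => ?_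
    rintro _ ⟨_, ⟨x, hx, rfl⟩, rfl⟩
    exact ⟨e.symm (φ (e x)), Subgroup.characteristic_iff_map_le.mp X.2.1 ((e.trans φ).trans e.symm) ⟨x, hx, rfl⟩,
      e.apply_symm_apply _⟩
  · have hs' : Bad (s.reindex e) := by
      refine ⟨hs.1, hs.2.1, fun hc => hs.2.2 fun a q r hr => ?_⟩
      have h := hc (e.symm a) (e.symm q) r hr
      have he : e ⁅e.symm a, ⁅e.symm a, e.symm q⁆⁆ = ⁅a, ⁅a, q⁆⁆ := by simp [map_commutatorElement]
      rw [← he]
      exact h
    have h := X.2.2 _ hs'
    rw [Subgroup.map_map]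
    exact h

theorem kk_map (e : S ≃* S') : (kk p S).map e.toMonoidHom = kk p S' := by
  refine le_antisymm (map_kk_le e) fun x hx => ⟨e.symm x, map_kk_le e.symm ⟨x, hx, rfl⟩, e.apply_symm_apply x⟩

end CfsgLib.PushPair

namespace CfsgLib.TransferRoot

open Cfsg CfsgLib CfsgLib.StrongFusion CfsgLib.TransferControl CfsgLib.RootCommute
open scoped commutatorElement

variable {p : ℕ} [hp : Fact p.Prime]

variable (p) in
/-- The characteristic subgroup of `B(Q)`. -/
noncomputable def kerBau (Q : Type u) [Group Q] : Subgroup Q :=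
  (PushPair.kk p ↥(bau p (⊤ : Subgroup Q))).map (bau p (⊤ : Subgroup Q)).subtype

theorem isCharPFunctor_kerBau [Fact (Nat.Prime 3)] : IsCharPFunctor 3 (kerBau.{u} 3) := by
  refine ⟨fun Q _ _ hQ hne e => ?_, fun Q R _ _ _ _ φ => ?_⟩
  · have hB : bau 3 (⊤ : Subgroup Q) ≠ ⊥ := fun e' => cent_ne_bot (p := 3) (Q := (⊤ : Subgroup Q))
      (hQ.to_subgroup ⊤) top_ne_bot (le_bot_iff.1 (e' ▸ fun x hx => ⟨hx.1, fun y hy => hx.2.2 y (meet_le _ hy)⟩))
    haveI : Nontrivial ↥(bau 3 (⊤ : Subgroup Q)) := (Subgroup.nontrivial_iff_ne_bot _).2 hB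
    exact PushPair.kk_ne_bot (hQ.to_subgroup _)
      ((Subgroup.map_eq_bot_iff_of_injective _ (bau 3 (⊤ : Subgroup Q)).subtype_injective).1 e)
  · haveI : Finite R := Finite.of_equiv Q φ.toEquiv
    have hmap : (bau 3 (⊤ : Subgroup Q)).map φ.toMonoidHom = bau 3 (⊤ : Subgroup R) := by
      rw [← bau_map φ.injective, Subgroup.map_top_of_surjective φ.toMonoidHom φ.surjective]
    let e := ((bau 3 (⊤ : Subgroup Q)).equivMapOfInjective φ.toMonoidHom φ.injective).trans
      (MulEquiv.subgroupCongr hmap)
    rw [kerBau, kerBau, ← PushPair.kk_map e, Subgroup.map_map, Subgroup.map_map]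
    rfl

/-- The centre as a functor. -/
def centreF (Q : Type u) [Group Q] : Subgroup Q := Subgroup.center Q

theorem isCharPFunctor_center : IsCharPFunctor p centreF.{u} := by
  refine ⟨fun Q _ _ hQ hne => ?_, fun Q R _ _ _ _ φ => ?_⟩
  · haveI := hne
    haveI := hQ.center_nontrivial
    exact (Subgroup.nontrivial_iff_ne_bot (Subgroup.center Q)).1 inferInstance
  · ext x
    constructor
    · rintro ⟨z, hz, rfl⟩
      exact Subgroup.mem_center_iff.2 fun y => by
        obtain ⟨y, rfl⟩ := φ.surjective y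
        simp [← map_mul, Subgroup.mem_center_iff.1 hz y]
    · intro hx
      exact ⟨φ.symm x, Subgroup.mem_center_iff.2 fun y => φ.injective (by
        simpa using Subgroup.mem_center_iff.1 hx (φ y)), φ.apply_symm_apply x⟩

theorem induced_center {G : Type u} [Group G] (T : Subgroup G) :
    inducedFunctor centreF T = T ⊓ Subgroup.centralizer (T : Set G) :=
  map_center T

theorem bau_top {G : Type u} [Group G] [Finite G] (T : Subgroup G) :
    bau p (⊤ : Subgroup T) = (bau p T).subgroupOf T := by
  refine Subgroup.map_injective T.subtype_injective ?_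
  rw [← bau_map T.subtype_injective, Subgroup.map_subgroupOf_eq_of_le (show bau p T ≤ T from inf_le_left), ← MonoidHom.range_eq_map,
    Subgroup.range_subtype]

theorem induced_kerBau {G : Type u} [Group G] [Finite G] (T : Subgroup G) :
    inducedFunctor (kerBau p) T =
      ((PushPair.kk p ↥((bau p T).subgroupOf T)).map ((bau p T).subgroupOf T).subtype).map T.subtype := by
  rw [inducedFunctor, kerBau]
  exact congrArg (fun H : Subgroup T => ((PushPair.kk p ↥H).map H.subtype).map T.subtype) (bau_top T)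

variable (p) in
/-- The centre and `kerBau`. -/
def pairFunctors : Set (∀ (Q : Type u) [Group Q], Subgroup Q) :=
  {centreF, kerBau p}

variable [Fact (Nat.Prime 3)]

theorem pairFunctors_char : ∀ W ∈ pairFunctors.{u} 3, IsCharPFunctor 3 W := by
  rintro W (rfl | rfl)
  exacts [isCharPFunctor_center, isCharPFunctor_kerBau]

theorem base_three {G : Type u} [Group G] [Finite G] : TransferControl.Base 3 (pairFunctors.{u} 3) G := by
  intro Y _ _ _ hcon hsub T
  classical
  set O := pCore 3 Y
  set T₀ := tr (pairFunctors 3) (T : Subgroup Y)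
  have h𝔚 := pairFunctors_char.{u}
  have hd : ⁅(T : Subgroup Y), (T : Subgroup Y)⁆ ≤ T₀ :=
    derived_le_tr (𝔚 := pairFunctors 3) (Or.inl rfl) isCharPFunctor_center T.2
  have hnormal : ∀ W ∈ pairFunctors.{u} 3, (inducedFunctor W (T : Subgroup Y)).Normal → O ⊓ commutator Y ≤ T₀ := by
    intro W hW hn
    refine le_trans (inf_le_inf_right _ (pCore_le_sylow T)) (le_trans (le_of_eq ?_)
      (le_iSup₂ (f := fun W _ => (T : Subgroup Y) ⊓ ⁅Subgroup.normalizer (inducedFunctor W (T : Subgroup Y) : Set Y),
        Subgroup.normalizer (inducedFunctor W (T : Subgroup Y) : Set Y)⁆) W hW))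
    show _ = (T : Subgroup Y) ⊓ ⁅Subgroup.normalizer (inducedFunctor W (T : Subgroup Y) : Set Y),
      Subgroup.normalizer (inducedFunctor W (T : Subgroup Y) : Set Y)⁆
    rw [Subgroup.normalizer_eq_top_iff.2 hn]
    rfl
  by_cases hZ : ((T : Subgroup Y) ⊓ Subgroup.centralizer ((T : Subgroup Y) : Set Y)).Normal
  · exact hnormal _ (Or.inl rfl) (by rwa [induced_center])
  by_cases hF : (inducedFunctor (kerBau 3) (T : Subgroup Y)).Normal
  · exact hnormal _ (Or.inr rfl) hF
  rw [induced_kerBau] at hF
  refine inf_commutator_le_of_commutator_le T hd (pCore_le_sylow T) ?_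
  have hn : ∀ q ∈ O, ∀ x : Y, x * q * x⁻¹ ∈ O := fun q hq x =>
    (inferInstance : (pCore 3 Y).Normal).conj_mem q hq x
  have hc : ∀ x : Y, (∀ q ∈ O, ⁅x, q⁆ ∈ T₀) → ∀ t ∈ T₀, t ∈ O → x * t * x⁻¹ ∈ T₀ := fun x hx t ht htQ => by
    rw [show x * t * x⁻¹ = ⁅x, t⁆ * t by simp only [commutatorElement_def]; group]
    exact mul_mem (hx t htQ) ht
  set M := fixer O T₀ hn hc
  have hproper : ∀ H : Subgroup Y, (T : Subgroup Y) ≤ H → H ≠ ⊤ → ∀ h ∈ H, ∀ q ∈ O, ⁅h, q⁆ ∈ T₀ :=
    fun H hTH hH h hh q hq => TransferControl.over_le h𝔚 T (hsub H hH) hTH ⟨pCore_le_sylow T (by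
      rw [commutatorElement_def]
      exact mul_mem (hn q hq h) (inv_mem hq)), Subgroup.commutator_mem_commutator hh (hTH (pCore_le_sylow T hq))⟩
  suffices hall : ∀ x : Y, ∀ q ∈ O, ⁅x, q⁆ ∈ T₀ by
    rw [Subgroup.commutator_le]
    intro q hq x _
    rw [← commutatorElement_inv]
    exact inv_mem (hall x q hq)
  by_cases hM : M = ⊤
  · exact fun x q hq => hM.ge (Subgroup.mem_top x) q hq
  have hbau : ¬ (bau 3 (T : Subgroup Y)).Normal := fun hb => by
    set B₀ := (bau 3 (T : Subgroup Y)).subgroupOf (T : Subgroup Y)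
    obtain ⟨hcb, heb⟩ := char_bau (p := 3) (T : Subgroup Y)
    haveI := hb
    refine hF ?_
    have hmap : ((bau 3 (T : Subgroup Y)).subgroupOf (T : Subgroup Y)).map (T : Subgroup Y).subtype =
      bau 3 (T : Subgroup Y) := heb
    let e := (B₀.equivMapOfInjective (T : Subgroup Y).subtype (T : Subgroup Y).subtype_injective).trans
      (MulEquiv.subgroupCongr hmap)
    haveI : ((PushPair.kk 3 ↥B₀).map e.toMonoidHom).Characteristic := by
      rw [PushPair.kk_map e]; exact PushPair.kk_char
    have := (inferInstance : (((PushPair.kk 3 ↥B₀).map e.toMonoidHom).map (bau 3 (T : Subgroup Y)).subtype).Normal)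
    rw [Subgroup.map_map] at this
    rw [Subgroup.map_map]
    exact this
  have hctx : Ctx T M :=
    { odd := by norm_num
      con := hcon
      le := fun s hs q hq => hd (Subgroup.commutator_mem_commutator hs (pCore_le_sylow T hq))
      ne := hM
      over_le := fun H hTH hH h hh q hq => hproper H hTH hH h hh q hq
      z_not_normal := hZ
      bau_not_normal := hbau }
  exact fix_of_degree_each T (pCore_le_sylow T) (tr_le _ _) hd hproper
    (exists_good_three hctx hF fun _ _ _ hs hoff => RootCommute.exists_rootProduct hs hoff)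

theorem ok_three {G : Type u} [Group G] [Finite G] : TransferControl.Ok 3 (pairFunctors.{u} 3) G :=
  ok_of_base pairFunctors_char (derived_of_mem pairFunctors_char (Or.inl rfl)) base_three

end CfsgLib.TransferRoot
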