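import Cfsg.Agent.Lib.TransferRoot.Pushing
import Cfsg.Agent.Lib.TransferRoot.Good
import Cfsg.Agent.Lib.PushPair.ThreeKer

/-!
For `p = 3`: the minimal subgroup over `B(S)` as a pushing up situation, and the conclusion there.
-/

set_option autoImplicit false
set_option linter.unusedSectionVars false
set_option linter.style.haveILetI false

namespace CfsgLib.TransferRoot

open Cfsg CfsgLib CfsgLib.StrongFusion CfsgLib.ZJ CfsgLib.KInf CfsgLib.RootCommute CfsgLib.WeakClosed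
open CfsgLib.PushRankOne (zs)
open scoped commutatorElement

universe u

variable {Y : Type u} [Group Y] [Finite Y] {p : ℕ} [hp : Fact p.Prime] {S : Sylow p Y} {M : Subgroup Y}
  {U : Type} [AddCommGroup U] [Finite U] {ρ : Y →* AddMonoid.End U} {π : Y → U}
  {X : Subgroup (Y ⧸ ρ.ker)} {N₁ N₂ : Subgroup Y}
  {L : Subgroup (Y ⧸ ρ.ker)} {F : Type} [Field F] [Fintype F] {φ : L →* Matrix.SpecialLinearGroup (Fin 2) F}
  {Lp : Subgroup Y}

/-- The minimal subgroup over `B(S)` as a situation. -/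
noncomputable def Inv.sit {h : Push S M ρ X L φ Lp} {Q : Sylow p Lp} {z : Lp} (hi : Inv h Q z)
    (d : Data S M ρ π X N₁ N₂) : PushPair.Sit p ↥((bau p (S : Subgroup Y)).subgroupOf (S : Subgroup Y)) where
  G := Lp
  τ := h.emb
  inj := h.emb_injective
  P := Q
  range_eq := hi.sylow_eq d
  setting := by
    obtain ⟨K, hK, n, hn, hq, he⟩ := h.exists_psl d
    haveI := hK
    exact PushRankOne.setting Q (h.constrained d.ctx)
      (h.exists_unique_max d.ctx ((hi.sylow_eq d).trans h.emb_range)) K F n hn hq he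
  uniq := h.exists_unique_max d.ctx ((hi.sylow_eq d).trans h.emb_range)
  psl := by
    obtain ⟨K, hK, n, -, hq, ⟨e⟩⟩ := h.exists_psl d
    haveI := hK
    haveI : CharP F p := charP_of_card_eq_prime_pow (f := n) hq
    exact ⟨F, inferInstance, inferInstance, inferInstance, e.toMonoidHom.comp (QuotientGroup.mk' K),
      e.surjective.comp (QuotientGroup.mk'_surjective K)⟩

theorem Inv.sit_zs_not_normal {h : Push S M ρ X L φ Lp} {Q : Sylow p Lp} {z : Lp} (hi : Inv h Q z)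
    (d : Data S M ρ π X N₁ N₂) : ¬ (zs Q).Normal := by
  intro hn
  obtain ⟨b, hbE, hb1, hbz, hbfix⟩ := hi.exists_root_vector d
  have hbB : b ∈ bau p (S : Subgroup Y) := ⟨d.ctx.core_le (meet_le _ hbE), fun e he => meet_comm (d.meet_le he) hbE⟩
  have hmem : (⟨b, h.bau_le hbB⟩ : Lp) ∈ zs Q := ⟨hi.bau_le hbB, fun y hy => Subtype.ext
    (mul_inv_eq_iff_eq_mul.1 (hbfix y hy))⟩
  have hc := PushRankOne.center_of_zs_normal (hi.sit d).setting hn hmem
  have e : (z : Y) * b * (z : Y)⁻¹ = b :=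
    mul_inv_eq_iff_eq_mul.2 (congrArg Subtype.val (Subgroup.mem_center_iff.1 hc z))
  rw [hbz] at e
  exact hb1 (eq_one_of_sq d.ctx.odd (by nth_rewrite 1 [← e]; exact inv_mul_cancel b) (meet_pow hbE))

theorem Inv.sit_outside {h : Push S M ρ X L φ Lp} {Q : Sylow p Lp} {z : Lp} (hi : Inv h Q z)
    (d : Data S M ρ π X N₁ N₂) : ∃ A ∈ goodMax p (Q : Subgroup Lp), ¬ A ≤ pCore p Lp := by
  by_contra hcon
  push Not at hcon
  have hc := d.ctx
  set B := bau p (S : Subgroup Y)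
  have hQmap : (Q : Subgroup Lp).map Lp.subtype = B := by
    rw [hi.sylow_eq d, h.emb_range, Subgroup.map_subgroupOf_eq_of_le h.bau_le]
  have hJ : thompsonJ p (S : Subgroup Y) ≤ (pCore p Lp).map Lp.subtype := sSup_le fun A hA => by
    have hAB : A ≤ B := (le_sSup hA : A ≤ thompsonJ p (S : Subgroup Y)).trans (thompsonJ_le_bau _)
    have hA' : A ∈ goodMax p ((Q : Subgroup Lp).map Lp.subtype) := by
      rw [hQmap]; exact ⟨hAB, hA.2.1, fun C hC => hA.2.2 C (hC.trans inf_le_left)⟩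
    rw [goodMax_map p Lp.subtype_injective] at hA'
    obtain ⟨A', hA'', rfl⟩ := hA'
    exact Subgroup.map_mono (hcon A' hA'')
  obtain ⟨x, hx, hxM⟩ := SetLike.not_le_iff_exists.1 h.not_le
  have hstep : cm x ((pCore p Lp).map Lp.subtype) ≤ (Q : Subgroup Lp).map Lp.subtype := ?_
  · exact hxM (hc.mem_of_conj_le ((((cm_mono hJ).trans hstep).trans hQmap.le).trans
      ((inf_le_left : B ≤ _).trans hc.le)))
  rintro _ ⟨_, ⟨y, hy, rfl⟩, rfl⟩
  exact ⟨⟨x, hx⟩ * y * ⟨x, hx⟩⁻¹, CfsgLib.pCore_le_sylow Q ((inferInstance : (pCore p Lp).Normal).conj_mem y hy _), rfl⟩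

/-- Pushing up: the residual moves the double commutators of `B(S)` into central elements of order `p`. -/
theorem Data.concl (d : Data S M ρ π X N₁ N₂)
    (hK : ¬ (((PushPair.kk p ↥((bau p (S : Subgroup Y)).subgroupOf (S : Subgroup Y))).map
      ((bau p (S : Subgroup Y)).subgroupOf (S : Subgroup Y)).subtype).map (S : Subgroup Y).subtype).Normal) :
    ∃ (Lp : Subgroup Y), bau p (S : Subgroup Y) ≤ Lp ∧ ¬ Lp ≤ M ∧
      ¬ (Cfsg.pResidual p Lp).map Lp.subtype ≤ M ∧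
      ∀ a ∈ bau p (S : Subgroup Y), ∀ q ∈ bau p (S : Subgroup Y), ∀ r : Lp, r ∈ Cfsg.pResidual p Lp →
        (∀ x : Lp, x ∈ pCore p Lp → (x : Y) * ⁅(r : Y), ⁅a, ⁅a, q⁆⁆⁆ = ⁅(r : Y), ⁅a, ⁅a, q⁆⁆⁆ * x) ∧
          ⁅(r : Y), ⁅a, ⁅a, q⁆⁆⁆ ^ p = 1 := by
  obtain ⟨L, F, _, _, φ, Lp, h⟩ := d.exists_push
  obtain ⟨Q, z, hi⟩ := h.exists_inv d
  have hbad : ¬ PushPair.Bad (hi.sit d) := fun hb =>
    hK (h.normal_of_normal d.ctx PushPair.kk_char (PushPair.kk_normal (hi.sit d) hb))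
  have hconcl : PushPair.Concl (hi.sit d) := by
    by_contra hcon
    exact hbad ⟨hi.sit_zs_not_normal d, hi.sit_outside d, hcon⟩
  refine ⟨Lp, h.bau_le, h.not_le, fun hle => h.not_le fun y hy => ?_, fun a ha q hq r hr => ?_⟩
  · have e := (PushUp.res_sup (p := p) (S := Q)).ge (Subgroup.mem_top (⟨y, hy⟩ : Lp))
    haveI : (Cfsg.pResidual p Lp).Normal := inferInstance
    rw [← SetLike.mem_coe, Subgroup.normal_mul] at e
    obtain ⟨r, hr, s, hs, e'⟩ := e
    rw [show y = (r : Y) * s from (congrArg Subtype.val e').symm]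
    have hs' : (s : Y) ∈ bau p (S : Subgroup Y) := hi.sylow_le_bau d hs
    exact M.mul_mem (hle ⟨r, hr, rfl⟩) (d.ctx.le hs'.1)
  have := hconcl ⟨⟨a, ha.1⟩, ha⟩ ⟨⟨q, hq.1⟩, hq⟩ r hr
  refine ⟨fun x hx => ?_, ?_⟩
  · exact congrArg Subtype.val (this.1 x hx)
  · exact congrArg Subtype.val this.2

end CfsgLib.TransferRoot
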