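import Cfsg.Agent.Lib.TransferRoot.ThreeMain

/-!
For `p = 3`: the controlled part of a Sylow subgroup as a product of two factors.
-/

set_option autoImplicit false
set_option linter.unusedSectionVars false
set_option linter.style.haveILetI false

universe u

namespace CfsgLib.TransferRoot

open Cfsg CfsgLib CfsgLib.StrongFusion CfsgLib.TransferControl
open scoped commutatorElement Pointwise

variable [Fact (Nat.Prime 3)]

theorem mem_product {G : Type u} [Group G] [Finite G] (P : Sylow 3 G) {g : G} (hgP : g ∈ (P : Subgroup G))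
    (hg : g ∈ commutator G) :
    ∃ a ∈ (P : Subgroup G) ⊓ ⁅Subgroup.centralizer (((P : Subgroup G) ⊓
        Subgroup.centralizer ((P : Subgroup G) : Set G) : Subgroup G) : Set G),
      Subgroup.centralizer (((P : Subgroup G) ⊓ Subgroup.centralizer ((P : Subgroup G) : Set G) : Subgroup G) : Set G)⁆,
      ∃ b ∈ (P : Subgroup G) ⊓ ⁅Subgroup.normalizer (inducedFunctor (kerBau 3) (P : Subgroup G) : Set G),
        Subgroup.normalizer (inducedFunctor (kerBau 3) (P : Subgroup G) : Set G)⁆, g = a * b := by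
  classical
  set Z := (P : Subgroup G) ⊓ Subgroup.centralizer ((P : Subgroup G) : Set G) with hZdef
  set C := Subgroup.centralizer (Z : Set G)
  set N := Subgroup.normalizer (Z : Set G)
  set N₂ := Subgroup.normalizer (inducedFunctor (kerBau 3) (P : Subgroup G) : Set G)
  set R := (P : Subgroup G) ⊓ ⁅C, C⁆
  set R₂ := (P : Subgroup G) ⊓ ⁅N₂, N₂⁆
  have hPC : (P : Subgroup G) ≤ C := fun x hx y hy => (hy.2 x hx).symm
  have hNP : Subgroup.normalizer ((P : Subgroup G) : Set G) ≤ N₂ :=
    normalizer_le_normalizer_induced isCharPFunctor_kerBau P.2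
  have hnormR : (P : Subgroup G) ≤ Subgroup.normalizer (R : Set G) := fun s hs =>
    Local.mem_normalizer_of_map_conj_eq (Subgroup.eq_of_le_of_card_ge (Local.map_conj_le fun x hx =>
      ⟨(P : Subgroup G).mul_mem ((P : Subgroup G).mul_mem hs hx.1) ((P : Subgroup G).inv_mem hs), conj_mem_commutator (fun l hl =>
        C.mul_mem (C.mul_mem (hPC hs) hl) (C.inv_mem (hPC hs))) hx.2⟩) (card_cm s R).ge)
  have hprod : ((R ⊔ R₂ : Subgroup G) : Set G) = (R : Set G) * (R₂ : Set G) :=
    Subgroup.coe_mul_of_right_le_normalizer_left _ _ (inf_le_left.trans hnormR)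
  have hPN : (P : Subgroup G) ≤ N := hPC.trans (Subgroup.centralizer_le_normalizer _)
  have hcentre : (P : Subgroup G) ⊓ ⁅N, N⁆ ≤ R ⊔ R₂ := by
    intro x hx
    have hxN : x ∈ N := hPN hx.1
    have h1 : (⟨x, hxN⟩ : N) ∈ commutator N ⊓ ((P.subtype hPN : Sylow 3 N) : Subgroup N) := by
      refine ⟨?_, hx.1⟩
      have h2 : x ∈ (commutator N).map N.subtype := by
        rw [commutator_def, Subgroup.map_commutator, ← MonoidHom.range_eq_map, Subgroup.range_subtype]
        exact hx.2
      obtain ⟨y, hy, e⟩ := h2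
      rwa [show y = ⟨x, hxN⟩ from Subtype.ext e] at hy
    rw [Subgroup.commutator_inf_eq_focalSubgroup, Subgroup.focalSubgroup_def] at h1
    suffices key : ∀ y : N, y ∈ Subgroup.closure _ → (y : G) ∈ R ⊔ R₂ from key _ h1
    intro y hy
    refine Subgroup.closure_induction (fun y hy => ?_) (one_mem (R ⊔ R₂)) (fun a b _ _ ha hb => mul_mem ha hb)
      (fun a _ ha => inv_mem ha) hy
    obtain ⟨hyP, a, ha, u, rfl⟩ := hy
    have hCN : ∀ n ∈ N, ∀ c ∈ C, n * c * n⁻¹ ∈ C := fun n hn c hc z hz => by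
      have hz' : n⁻¹ * z * n ∈ Z := by
        have := (Subgroup.mem_normalizer_iff.1 (inv_mem hn) z).1 hz
        simpa using this
      calc z * (n * c * n⁻¹) = n * ((n⁻¹ * z * n) * c) * n⁻¹ := by group
        _ = n * (c * (n⁻¹ * z * n)) * n⁻¹ := by rw [hc _ hz']
        _ = n * c * n⁻¹ * z := by group
    have hR : cm (u : G) (P : Subgroup G) ≤ C := by
      rintro _ ⟨t, ht, rfl⟩
      exact hCN u u.2 t (hPC ht)
    obtain ⟨c, hc, hcP⟩ := exists_conj_le hPC P.2
      (fun hd => P.not_dvd_index (hd.trans (Subgroup.relIndex_dvd_index_of_le hPC))) hR (P.2.map _)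
    rw [cm_cm] at hcP
    set m := c * (u : G)
    have hm : m ∈ Subgroup.normalizer ((P : Subgroup G) : Set G) :=
      Local.mem_normalizer_of_map_conj_eq (Subgroup.eq_of_le_of_card_ge hcP (card_cm m _).ge)
    have haP : (a : G) ∈ (P : Subgroup G) := ha
    have hb : m * (a : G)⁻¹ * m⁻¹ ∈ (P : Subgroup G) := hcP (conj_mem_cm (inv_mem haP))
    set b := m * (a : G)⁻¹ * m⁻¹ with hbdef
    have hab : (a : G) * b ∈ R₂ := ⟨mul_mem haP hb, by
      rw [show (a : G) * b = ⁅(a : G), m⁆ by simp only [hbdef, commutatorElement_def]; group]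
      exact Subgroup.commutator_mem_commutator (hNP (Subgroup.le_normalizer haP)) (hNP hm)⟩
    have e : ((⁅a, u⁆ : N) : G) = (a : G) * b * ⁅b⁻¹, c⁻¹⁆ := by
      simp only [hbdef, m, commutatorElement_def, Subgroup.coe_mul, Subgroup.coe_inv]; group
    have hyP' : ((⁅a, u⁆ : N) : G) ∈ (P : Subgroup G) := hyP
    rw [e] at hyP' ⊢
    refine mul_mem (Subgroup.mem_sup_right hab) (Subgroup.mem_sup_left ⟨?_,
      Subgroup.commutator_mem_commutator (inv_mem (hPC hb)) (inv_mem hc)⟩)
    have := (P : Subgroup G).mul_mem ((P : Subgroup G).inv_mem hab.1) hyP'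
    rwa [inv_mul_cancel_left] at this
  have hg' : g ∈ R ⊔ R₂ := by
    refine (le_trans (ok_three P) (iSup₂_le ?_)) ⟨hgP, hg⟩
    rintro W (rfl | rfl)
    · rw [induced_center]; exact hcentre
    · exact le_sup_right
  rw [← SetLike.mem_coe, hprod] at hg'
  obtain ⟨a, ha, b, hb, e⟩ := hg'
  exact ⟨a, ha, b, hb, e.symm⟩

end CfsgLib.TransferRoot
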